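import Mathlib.Data.Fintype.BigOperators
import Mathlib.Algebra.Order.BigOperators.Group.Finset
import Mathlib.Data.Rat.Defs
import Mathlib.Algebra.Order.Ring.Rat
import Mathlib.Tactic.Linarith
import Mathlib.Tactic.FieldSimp
import Mathlib.Tactic.LinearCombination
import Mathlib.Tactic.IntervalCases
import Mathlib.Tactic.Positivity
import Mathlib.Tactic.Ring
import Mathlib.Tactic.NormNum
import Mathlib.Algebra.Order.Ring.Abs

/-!
# The coefficient combinatorics and the order equation for `GL(2, 3)`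
-/

set_option autoImplicit false

namespace CfsgLib.GL23

variable {ι : Type*} [DecidableEq ι]

theorem sq_le_one_cases {x : ℤ} (h : x ^ 2 ≤ 1) : x = -1 ∨ x = 0 ∨ x = 1 := by
  have h1 : x ≤ 1 := by nlinarith
  have h2 : -1 ≤ x := by nlinarith
  omega

theorem exists_one_of_sum_sq (s : Finset ι) (f : ι → ℤ) (h : ∑ i ∈ s, f i ^ 2 = 1) :
    ∃ a ∈ s, (f a = 1 ∨ f a = -1) ∧ ∀ i ∈ s, i ≠ a → f i = 0 := by
  obtain ⟨a, ha, hfa⟩ : ∃ a ∈ s, f a ≠ 0 := by
    by_contra! hz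
    rw [Finset.sum_eq_zero fun i hi => by rw [hz i hi]; norm_num] at h
    omega
  have hsplit := Finset.add_sum_erase s (fun i => f i ^ 2) ha
  rw [h] at hsplit
  have h0 : 0 ≤ ∑ i ∈ s.erase a, f i ^ 2 := Finset.sum_nonneg fun i _ => sq_nonneg _
  have h1 : 0 < f a ^ 2 := by positivity
  have h2 : f a ^ 2 = 1 := by linarith
  refine ⟨a, ha, sq_eq_one_iff.1 h2, fun i hi hia => ?_⟩
  have h3 := (Finset.sum_eq_zero_iff_of_nonneg fun i _ => sq_nonneg (f i)).1
    (by linarith : ∑ i ∈ s.erase a, f i ^ 2 = 0) i (Finset.mem_erase.2 ⟨hia, hi⟩)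
  exact eq_zero_of_pow_eq_zero h3

theorem exists_two_of_sum_sq (s : Finset ι) (f : ι → ℤ) (h : ∑ i ∈ s, f i ^ 2 = 2) :
    ∃ a ∈ s, ∃ b ∈ s, a ≠ b ∧ (f a = 1 ∨ f a = -1) ∧ (f b = 1 ∨ f b = -1) ∧
      ∀ i ∈ s, i ≠ a → i ≠ b → f i = 0 := by
  obtain ⟨a, ha, hfa⟩ : ∃ a ∈ s, f a ≠ 0 := by
    by_contra! hz
    rw [Finset.sum_eq_zero fun i hi => by rw [hz i hi]; norm_num] at h
    omega
  have hsplit := Finset.add_sum_erase s (fun i => f i ^ 2) ha
  rw [h] at hsplit
  have h0 : 0 ≤ ∑ i ∈ s.erase a, f i ^ 2 := Finset.sum_nonneg fun i _ => sq_nonneg _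
  have h1 : 0 < f a ^ 2 := by positivity
  have h2 : f a ^ 2 = 1 := by
    have h3 : f a ≤ 1 := by nlinarith
    have h4 : -1 ≤ f a := by nlinarith
    have : f a = 1 ∨ f a = -1 := by omega
    rcases this with e | e <;> rw [e] <;> norm_num
  obtain ⟨b, hb, hfb, hrest⟩ := exists_one_of_sum_sq (s.erase a) f (by linarith)
  exact ⟨a, ha, b, (Finset.mem_erase.1 hb).2, fun e => (Finset.mem_erase.1 hb).1 e.symm,
    sq_eq_one_iff.1 h2, hfb, fun i hi hia hib => hrest i (Finset.mem_erase.2 ⟨hia, hi⟩) hib⟩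

variable [Fintype ι]

theorem sum_mul_two {R : Type*} [CommRing R] (f : ι → ℤ) (w : ι → R) {a b : ι} (hab : a ≠ b)
    (h : ∀ i, i ≠ a → i ≠ b → f i = 0) :
    ∑ i, (f i : R) * w i = (f a : R) * w a + (f b : R) * w b := by
  rw [← Finset.sum_subset (Finset.subset_univ {a, b}), Finset.sum_pair hab]
  intro i _ hi
  simp only [Finset.mem_insert, Finset.mem_singleton, not_or] at hi
  rw [h i hi.1 hi.2, Int.cast_zero, zero_mul]

/-- The difference of norm two, one of whose constituents is real. -/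
theorem exists_real_split (σ : ι → ι) (hσ : ∀ i, σ (σ i) = i) (f d : ι → ℤ) (hd : ∀ i, 1 ≤ d i)
    (hn : ∑ i, f i ^ 2 = 2) (h1 : ∑ i, f i * d i = 0) (hc : ∑ i, f i * f (σ i) = 1) :
    ∃ (η : ℤ) (R Q : ι), (η = 1 ∨ η = -1) ∧ R ≠ Q ∧ σ R = R ∧ σ Q ≠ Q ∧ σ Q ≠ R ∧
      d R = d Q ∧ f R = η ∧ f Q = -η ∧ ∀ i, i ≠ R → i ≠ Q → f i = 0 := by
  obtain ⟨a, -, b, -, hab, ha, hb, hrest⟩ := exists_two_of_sum_sq Finset.univ f hn
  have hrest' : ∀ i, i ≠ a → i ≠ b → f i = 0 := fun i => hrest i (Finset.mem_univ i)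
  have e1 := sum_mul_two f d hab hrest'
  simp only [Int.cast_eq, h1] at e1
  have e2 := sum_mul_two f (fun i => f (σ i)) hab hrest'
  simp only [Int.cast_eq, hc] at e2
  have hsign : f b = -f a := by
    have := hd a
    have := hd b
    rcases ha with ha | ha <;> rcases hb with hb | hb <;> rw [ha, hb] at e1 ⊢ <;> omega
  have hdd : d a = d b := by
    rw [hsign] at e1
    rcases ha with ha | ha <;> rw [ha] at e1 <;> omega
  by_cases h3 : σ a = b
  · have h4 : σ b = a := by rw [← h3, hσ]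
    rw [h3, h4, hsign] at e2
    rcases ha with ha | ha <;> rw [ha] at e2 <;> omega
  by_cases h5 : σ a = a <;> by_cases h6 : σ b = b
  · rw [h5, h6, hsign] at e2
    rcases ha with ha | ha <;> rw [ha] at e2 <;> omega
  · exact ⟨f a, a, b, ha, hab, h5, h6, fun h => h3 (by rw [← h, hσ]),
      hdd, rfl, hsign, hrest'⟩
  · exact ⟨f b, b, a, hb, hab.symm, h6, h5, h3, hdd.symm, rfl, by rw [hsign, neg_neg],
      fun i p q => hrest' i q p⟩
  · have h7 : σ b ≠ a := fun h => h3 (by rw [← h, hσ])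
    rw [hrest' _ h5 h3, hrest' _ h7 h6, mul_zero, mul_zero] at e2
    omega

theorem coeff_cases {k u v r : ℤ} (hr : 0 ≤ r) (huv : u + v = 2)
    (e : k ^ 2 + 2 * (k + 1) ^ 2 + u ^ 2 + v ^ 2 + r = 4) :
    (k = -1 ∨ k = 0) ∧ u = 1 ∧ v = 1 := by
  have hv : v = 2 - u := by omega
  subst hv
  have h0 := sq_nonneg (u - 1)
  have h1 : k ≤ 0 := by nlinarith
  have h2 : -1 ≤ k := by nlinarith
  have h3 : (u - 1) ^ 2 ≤ 0 := by
    have : k = -1 ∨ k = 0 := by omega
    rcases this with rfl | rfl <;> nlinarith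
  have h4 := eq_zero_of_pow_eq_zero (le_antisymm h3 h0)
  exact ⟨by omega, by omega, by omega⟩

theorem value_cases {u v : ℤ} (h : u + v = 7) (hle : v ≤ u) (h26 : u ^ 2 + v ^ 2 ≤ 26) :
    u = 4 ∧ v = 3 := by
  have h1 : 4 ≤ u := by omega
  have hv : v = 7 - u := by omega
  subst hv
  have h2 : u ≤ 4 := by nlinarith
  omega

set_option maxHeartbeats 1000000 in
/-- The system of equations determined by the three exceptional functions. -/
theorem order_system (σ : ι → ι) (hσ : ∀ i, σ (σ i) = i) (z d mA mD mE : ι → ℤ) (P : ι)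
    (hd : ∀ i, 1 ≤ d i) (hzσ : ∀ i, z (σ i) = z i)
    (hAσ : ∀ i, mA (σ i) = mA i) (hEσ : ∀ i, mE (σ i) = mE i)
    (hAA : ∑ i, mA i ^ 2 = 3) (hDD : ∑ i, mD i ^ 2 = 2) (hEE : ∑ i, mE i ^ 2 = 4)
    (hAD : ∑ i, mA i * mD i = 0) (hAE : ∑ i, mA i * mE i = 2) (hED : ∑ i, mE i * mD i = -1)
    (hDs : ∑ i, mD i * mD (σ i) = 1)
    (hAP : mA P = 1) (hDP : mD P = 0) (hEP : mE P = 0) (hzP : z P = 1) (hdP : d P = 1)
    (hσP : σ P = P) (hA1 : ∑ i, mA i * d i = 0) (hD1 : ∑ i, mD i * d i = 0)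
    (hE1 : ∑ i, mE i * d i = 0) (hAt : ∑ i, mA i * z i = 8) (hDt : ∑ i, mD i * z i = 4)
    (hEt : ∑ i, mE i * z i = 8) (hcol : ∑ i, z i ^ 2 ≤ 48) (g : ℤ) (hg : 0 < g) (c : ℤ)
    (hc : c = 0 ∨ c = 1)
    (hLA : (g : ℚ) * ∑ i, (mA i : ℚ) * ((z i : ℚ) ^ 2 / d i) = 9216 * c)
    (hLD : (g : ℚ) * ∑ i, (mD i : ℚ) * ((z i : ℚ) ^ 2 / d i) = 0)
    (hLE : (g : ℚ) * ∑ i, (mE i : ℚ) * ((z i : ℚ) ^ 2 / d i) = 4608 * c)
    (hscal : ∀ i, i ≠ P → z i ^ 2 ≠ d i ^ 2) :
    ∃ A C : ℤ, A ≠ 0 ∧ A ≠ -1 ∧ C ≠ 0 ∧ C ≠ 1 ∧ g * (A + 4) ^ 2 = 9216 * (A * (A + 1)) ∧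
      (10 * C - 18) * (A * (A + 1)) = (A * (A + 1) - 16 * (A + 1) + 9 * A) * (C * (C - 1)) := by
  have hgq : (g : ℚ) ≠ 0 := Int.cast_ne_zero.2 hg.ne'
  obtain ⟨η, R, Q, hη, hRQ, hσR, hσQ, hσQR, hdRQ, hR, hQ, hrest⟩ :=
    exists_real_split σ hσ mD d hd hDD hD1 hDs
  have hη2 : η * η = 1 := by rcases hη with h | h <;> rw [h] <;> norm_num
  have hηne : η ≠ 0 := by rcases hη with h | h <;> omega
  -- values of the constituents of the difference at the involution
  have et := sum_mul_two mD z hRQ hrest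
  simp only [Int.cast_eq, hDt, hR, hQ] at et
  have hsq : z R ^ 2 = z Q ^ 2 := by
    have e := sum_mul_two mD (fun i => (z i : ℚ) ^ 2 / d i) hRQ hrest
    rw [e, hR, hQ] at hLD
    have hd0 : (d Q : ℚ) ≠ 0 := Int.cast_ne_zero.2 (by have := hd Q; omega)
    have hη0 : (η : ℚ) ≠ 0 := Int.cast_ne_zero.2 hηne
    have h1 := (mul_eq_zero.1 hLD).resolve_left hgq
    rw [hdRQ] at h1
    push_cast at h1
    field_simp at h1
    have h2 : (z R : ℚ) ^ 2 = (z Q : ℚ) ^ 2 := mul_left_cancel₀ hη0 (by linear_combination h1)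
    exact_mod_cast h2
  have hzz : z R = 2 * η ∧ z Q = -2 * η := by
    rcases sq_eq_sq_iff_eq_or_eq_neg.1 hsq with h | h
    · rw [h] at et
      have : (4 : ℤ) = 0 := by linear_combination et
      omega
    · rw [h] at et
      constructor <;> rcases hη with e | e <;> rw [e] at et ⊢ <;> omega
  -- the first function
  have hAQ : mA R = mA Q := by
    have e := sum_mul_two mD mA hRQ hrest
    rw [Finset.sum_congr rfl (fun i _ => mul_comm _ _)] at hAD
    simp only [Int.cast_eq, hAD, hR, hQ] at e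
    exact mul_left_cancel₀ hηne (by linarith)
  have hPR : P ≠ R := by rintro rfl; omega
  have hPQ : P ≠ Q := by rintro rfl; omega
  have hPσ : P ≠ σ Q := by
    intro h; apply hPQ; rw [← hσ Q, ← h, hσP]
  have hj : mA Q = 0 := by
    have h := Finset.sum_le_univ_sum_of_nonneg (fun i => sq_nonneg (mA i))
      (s := {P, R, Q, σ Q})
    rw [Finset.sum_insert (by simp [hPR, hPQ, hPσ]), Finset.sum_insert (by simp [hRQ, hσQR.symm]),
      Finset.sum_pair (Ne.symm hσQ), hAA, hAP, hAQ, hAσ] at h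
    nlinarith
  have hA2 : ∑ i ∈ Finset.univ.erase P, mA i ^ 2 = 2 := by
    have := Finset.add_sum_erase Finset.univ (fun i => mA i ^ 2) (Finset.mem_univ P)
    rw [hAA, hAP] at this
    linarith
  obtain ⟨a₀, ha₀, b₀, hb₀, hab₀, hsa₀, hsb₀, hrestA⟩ :=
    exists_two_of_sum_sq _ mA hA2
  have expand : ∀ {R' : Type} [CommRing R'] (w : ι → R'), ∑ i, (mA i : R') * w i =
      w P + ((mA a₀ : R') * w a₀ + (mA b₀ : R') * w b₀) := by
    intro R' _ w
    rw [← Finset.add_sum_erase Finset.univ _ (Finset.mem_univ P), hAP, Int.cast_one, one_mul]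
    congr 1
    rw [← Finset.sum_subset (s₁ := {a₀, b₀}) (Finset.insert_subset ha₀
      (Finset.singleton_subset_iff.2 hb₀)), Finset.sum_pair hab₀]
    intro i hi hi'
    simp only [Finset.mem_insert, Finset.mem_singleton, not_or] at hi'
    rw [hrestA i hi hi'.1 hi'.2, Int.cast_zero, zero_mul]
  have heq1 := expand (fun i => z i)
  simp only [Int.cast_eq, hAt, hzP] at heq1
  -- order the pair by its values at the involution
  obtain ⟨a, ha, b, hb, hab, hsa, hsb, hAt', hA1', hLA', hAE', hbig⟩ :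
      ∃ a ∈ Finset.univ.erase P, ∃ b ∈ Finset.univ.erase P, a ≠ b ∧ mA a ^ 2 = 1 ∧ mA b ^ 2 = 1 ∧
        mA a * z a + mA b * z b = 7 ∧ 1 + mA a * d a + mA b * d b = 0 ∧
        (g : ℚ) * (1 + (mA a : ℚ) * ((z a : ℚ) ^ 2 / d a) + (mA b : ℚ) * ((z b : ℚ) ^ 2 / d b)) =
          9216 * c ∧ mA a * mE a + mA b * mE b = 2 ∧ mA b * z b ≤ mA a * z a := by
    have e2 := expand (fun i => d i)
    simp only [Int.cast_eq, hA1, hdP] at e2
    have e3 := expand (fun i => (z i : ℚ) ^ 2 / d i)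
    rw [e3, hzP, hdP] at hLA
    simp only [Int.cast_one, one_pow, div_one] at hLA
    have e4 := expand (fun i => mE i)
    simp only [Int.cast_eq, hAE, hEP] at e4
    have p : mA a₀ ^ 2 = 1 := sq_eq_one_iff.2 hsa₀
    have q : mA b₀ ^ 2 = 1 := sq_eq_one_iff.2 hsb₀
    rcases le_total (mA b₀ * z b₀) (mA a₀ * z a₀) with h | h
    · exact ⟨a₀, ha₀, b₀, hb₀, hab₀, p, q, by linarith, by linarith,
        (by rw [← hLA]; ring), by linarith, h⟩
    · exact ⟨b₀, hb₀, a₀, ha₀, hab₀.symm, q, p, by linarith, by linarith,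
        (by rw [← hLA]; ring), by linarith, h⟩
  have hne : ∀ x, mA x ^ 2 = 1 → x ≠ R ∧ x ≠ Q ∧ x ≠ σ Q := by
    intro x hx
    refine ⟨?_, ?_, ?_⟩ <;> rintro rfl <;> simp [hAQ, hAσ, hj] at hx
  obtain ⟨haR, haQ, haσ⟩ := hne a hsa
  obtain ⟨hbR, hbQ, hbσ⟩ := hne b hsb
  have haP := (Finset.mem_erase.1 ha).1
  have hbP := (Finset.mem_erase.1 hb).1
  -- the third function
  have hk : η * mE R + 1 = η * mE Q := by
    have e := sum_mul_two mD mE hRQ hrest
    rw [Finset.sum_congr rfl (fun i _ => mul_comm _ _)] at hED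
    simp only [Int.cast_eq, hED, hR, hQ] at e
    linarith
  have six : ∀ {R' : Type} [CommRing R'] (w : ι → R'),
      ∑ i, w i = w P + w R + w Q + w (σ Q) + w a + w b +
        ∑ i ∈ (Finset.univ \ {P, R, Q, σ Q, a, b}), w i := by
    intro R' _ w
    rw [← Finset.sum_sdiff (Finset.subset_univ {P, R, Q, σ Q, a, b}),
      Finset.sum_insert (by simp [hPR, hPQ, hPσ, haP.symm, hbP.symm]),
      Finset.sum_insert (by simp [hRQ, hσQR.symm, haR.symm, hbR.symm]),
      Finset.sum_insert (by simp [Ne.symm hσQ, haQ.symm, hbQ.symm]),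
      Finset.sum_insert (by simp [haσ.symm, hbσ.symm]), Finset.sum_pair hab]
    ring
  have eE := six (fun i => mE i ^ 2)
  rw [hEE, hEP, hEσ] at eE
  have hnn : 0 ≤ ∑ i ∈ (Finset.univ \ {P, R, Q, σ Q, a, b}), mE i ^ 2 :=
    Finset.sum_nonneg fun i _ => sq_nonneg _
  have hRk : mE R = η * (η * mE R) := by rw [← mul_assoc, hη2, one_mul]
  have hQk : mE Q = η * (η * mE Q) := by rw [← mul_assoc, hη2, one_mul]
  have sR : mE R ^ 2 = (η * mE R) ^ 2 := by rw [mul_pow, sq η, hη2, one_mul]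
  have sQ : mE Q ^ 2 = (η * mE Q) ^ 2 := by rw [mul_pow, sq η, hη2, one_mul]
  have sa : mE a ^ 2 = (mA a * mE a) ^ 2 := by rw [mul_pow, hsa, one_mul]
  have sb : mE b ^ 2 = (mA b * mE b) ^ 2 := by rw [mul_pow, hsb, one_mul]
  rw [sR, sQ, sa, sb, ← hk] at eE
  rw [← hk] at hQk
  generalize hkdef : η * mE R = k at eE hRk hQk
  obtain ⟨hk01, huv⟩ := coeff_cases hnn hAE' (k := k) (by rw [eE]; ring)
  have hEa : mE a = mA a := by
    calc mE a = mA a ^ 2 * mE a := by rw [hsa, one_mul]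
      _ = mA a * (mA a * mE a) := by ring
      _ = mA a := by rw [huv.1, mul_one]
  have hEb : mE b = mA b := by
    calc mE b = mA b ^ 2 * mE b := by rw [hsb, one_mul]
      _ = mA b * (mA b * mE b) := by ring
      _ = mA b := by rw [huv.2, mul_one]
  rw [huv.1, huv.2] at eE
  rcases hk01 with rfl | rfl
  swap
  · have hz0 := (Finset.sum_eq_zero_iff_of_nonneg fun i _ => sq_nonneg (mE i)).1
      (by linarith : ∑ i ∈ (Finset.univ \ {P, R, Q, σ Q, a, b}), mE i ^ 2 = 0)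
    have et' := six (fun i => mE i * z i)
    rw [hEt, hEP, hEσ, hzσ, hRk, hQk, hEa, hEb, hzz.2, Finset.sum_eq_zero fun i hi => by
      rw [eq_zero_of_pow_eq_zero (hz0 i hi), zero_mul]] at et'
    have : (8 : ℤ) = 3 := by linear_combination et' + hAt' - 4 * hη2
    omega
  · obtain ⟨e, he, hse, hrestE⟩ := exists_one_of_sum_sq
      (Finset.univ \ {P, R, Q, σ Q, a, b}) mE (by linarith)
    have hse2 : mE e ^ 2 = 1 := sq_eq_one_iff.2 hse
    have hQ0 : mE Q = 0 := by rw [hQk]; ring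
    have hR1 : mE R = -η := by rw [hRk]; ring
    have expE : ∀ {R' : Type} [CommRing R'] (w : ι → R'), ∑ i, (mE i : R') * w i =
        -(η : R') * w R + (mA a : R') * w a + (mA b : R') * w b + (mE e : R') * w e := by
      intro R' _ w
      rw [six (fun i => (mE i : R') * w i), hEP, hEσ, hQ0, hR1, hEa, hEb,
        Finset.sum_eq_single_of_mem e he (fun i hi hie => by
          rw [hrestE i hi hie, Int.cast_zero, zero_mul]), Int.cast_zero, Int.cast_neg]
      ring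
    have et' := expE (fun i => z i)
    simp only [Int.cast_eq, hEt, hzz.1] at et'
    have hCt : mE e * z e = 3 := by linear_combination -et' - hAt' + 2 * hη2
    have e1' := expE (fun i => d i)
    simp only [Int.cast_eq, hE1] at e1'
    have eL := expE (fun i => (z i : ℚ) ^ 2 / d i)
    rw [eL] at hLE
    -- values of the pair
    have hcol' := six (fun i => z i ^ 2)
    have he2 : z e ^ 2 = 9 := by
      calc z e ^ 2 = mE e ^ 2 * z e ^ 2 := by rw [hse2, one_mul]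
        _ = (mE e * z e) ^ 2 := by ring
        _ = 9 := by rw [hCt]; norm_num
    have he3 : z e ^ 2 ≤ ∑ i ∈ (Finset.univ \ {P, R, Q, σ Q, a, b}), z i ^ 2 :=
      Finset.single_le_sum (fun i _ => sq_nonneg (z i)) he
    rw [hzP, hzσ, hzz.1, hzz.2] at hcol'
    have za : z a ^ 2 = (mA a * z a) ^ 2 := by rw [mul_pow, hsa, one_mul]
    have zb : z b ^ 2 = (mA b * z b) ^ 2 := by rw [mul_pow, hsb, one_mul]
    rw [za, zb] at hcol'
    generalize hu : mA a * z a = u at hcol' za hAt' hbig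
    generalize hv : mA b * z b = v at hcol' zb hAt' hbig
    have hη4 : (2 * η) ^ 2 = 4 := by linear_combination 4 * hη2
    have hη4' : (-2 * η) ^ 2 = 4 := by linear_combination 4 * hη2
    have h26 : u ^ 2 + v ^ 2 ≤ 26 := by linarith
    obtain ⟨rfl, rfl⟩ := value_cases hAt' hbig h26
    -- the rational equations
    have za' : (z a : ℚ) ^ 2 = 16 := by exact_mod_cast (za.trans (by norm_num))
    have zb' : (z b : ℚ) ^ 2 = 9 := by exact_mod_cast (zb.trans (by norm_num))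
    have ze' : (z e : ℚ) ^ 2 = 9 := by exact_mod_cast he2
    have zR' : (z R : ℚ) ^ 2 = 4 := by
      rw [hzz.1]; exact_mod_cast hη4
    rw [za', zb'] at hLA'
    rw [za', zb', ze', zR'] at hLE
    have inv1 : ∀ {s n : ℤ}, s ^ 2 = 1 → ∀ r : ℚ, (s : ℚ) * (r / n) = r / ((s * n : ℤ) : ℚ) := by
      intro s n hs r
      rcases sq_eq_one_iff.1 hs with h | h <;> subst h <;> push_cast <;> ring
    rw [inv1 hsa, inv1 hsb] at hLA'
    rw [inv1 hsa, inv1 hsb, inv1 hse2, neg_mul,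
      inv1 (by rw [sq]; exact hη2 : η ^ 2 = 1)] at hLE
    have hBv : mA b * d b = -1 - mA a * d a := by linarith
    have hxv : η * d R = mE e * d e - 1 := by linarith
    have nz : ∀ {s : ℤ} (i : ι), s ^ 2 = 1 → s * d i ≠ 0 := fun i hs =>
      mul_ne_zero (by rintro rfl; norm_num at hs) (by have := hd i; omega)
    have n1 := nz a hsa
    have n2 := nz b hsb
    have n3 := nz e hse2
    have n4 := nz (s := η) R (by rw [sq]; exact hη2)
    rw [hBv] at n2 hLA' hLE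
    rw [hxv] at n4 hLE
    generalize hA : mA a * d a = A at n1 n2 hLA' hLE
    generalize hC : mE e * d e = C at n3 n4 hLE
    have q1 : (A : ℚ) ≠ 0 := Int.cast_ne_zero.2 n1
    have q2 : ((-1 - A : ℤ) : ℚ) ≠ 0 := Int.cast_ne_zero.2 n2
    have q3 : (C : ℚ) ≠ 0 := Int.cast_ne_zero.2 n3
    have q4 : ((C - 1 : ℤ) : ℚ) ≠ 0 := Int.cast_ne_zero.2 n4
    push_cast at q2 q4 hLA' hLE
    rcases hc with rfl | rfl
    · exfalso
      push_cast at hLA'
      rw [mul_zero] at hLA'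
      have h1 := (mul_eq_zero.1 hLA').resolve_left hgq
      field_simp at h1
      have h2 : ((A : ℚ) + 4) ^ 2 = 0 := by linear_combination -h1
      have h3 : A + 4 = 0 := by exact_mod_cast eq_zero_of_pow_eq_zero h2
      refine hscal a haP ?_
      rw [za, show d a ^ 2 = (mA a * d a) ^ 2 by rw [mul_pow, hsa, one_mul], hA]
      rw [show A = -4 by omega]
      norm_num
    · push_cast at hLA' hLE
      refine ⟨A, C, n1, by omega, n3, by omega, ?_, ?_⟩
      · have h1 := hLA'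
        field_simp at h1
        have h2 : (g : ℚ) * ((A : ℚ) + 4) ^ 2 = 9216 * (A * (A + 1)) := by linear_combination -h1
        exact_mod_cast h2
      · have h0 : (18 / (C : ℚ) - 8 / ((C : ℚ) - 1)) = 1 - 16 / A - 9 / (-1 - A) := by
          refine mul_left_cancel₀ hgq ?_
          linear_combination 2 * hLE - hLA'
        field_simp at h0
        have h2 : (10 * (C : ℚ) - 18) * (A * (A + 1)) =
            (A * (A + 1) - 16 * (A + 1) + 9 * A) * (C * (C - 1)) := by linear_combination -h0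
        exact_mod_cast h2

theorem odd_quotient_cases : ∀ a : Fin 91, ∀ b : Fin 91,
    let m : ℤ := 91 * (a.val : ℤ) + b.val - 4140
    m ≠ 0 → (576 * (m - 4) * (m - 3)) % m ^ 2 = 0 → (576 * (m - 4) * (m - 3)) / m ^ 2 % 2 = 1 →
    m = 16 ∨ m = 48 ∨ m = -16 ∨ m = -48 := by decide +kernel

/-- The final arithmetic. -/
theorem order_cases {g A C : ℤ} (hg : ∃ l : ℤ, 0 ≤ l ∧ g = 16 * (2 * l + 1))
    (hA : A ≠ 0) (hA' : A ≠ -1) (h : g * (A + 4) ^ 2 = 9216 * (A * (A + 1)))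
    (hC : (10 * C - 18) * (A * (A + 1)) = (A * (A + 1) - 16 * (A + 1) + 9 * A) * (C * (C - 1))) :
    g = 5616 ∨ g = 7920 := by
  obtain ⟨l, hl, rfl⟩ := hg
  obtain ⟨m, rfl⟩ : ∃ m, A = m - 4 := ⟨A + 4, by ring⟩
  have hm : m ≠ 0 := by
    rintro rfl
    norm_num at h
  have h' : (2 * l + 1) * m ^ 2 = 576 * (m - 4) * (m - 3) := by linarith
  have hbound : -4100 ≤ m ∧ m ≤ 4100 := by
    have e : (2 * l + 1 - 576) * m ^ 2 = 576 * (12 - 7 * m) := by linear_combination h'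
    have h2 : 2 * l + 1 - 576 ≥ 1 ∨ 2 * l + 1 - 576 ≤ -1 := by omega
    have hm2 := sq_nonneg m
    constructor <;> rcases h2 with h2 | h2 <;> nlinarith
  have hdiv : 576 * (m - 4) * (m - 3) / m ^ 2 = 2 * l + 1 := by
    rw [← h', Int.mul_ediv_cancel _ (pow_ne_zero 2 hm)]
  have hmod : (576 * (m - 4) * (m - 3)) % m ^ 2 = 0 := by rw [← h']; exact Int.mul_emod_left _ _
  obtain ⟨a, b, hab⟩ : ∃ a b : Fin 91, m = 91 * (a.val : ℤ) + b.val - 4140 :=
    ⟨⟨((m + 4140) / 91).toNat, by omega⟩, ⟨((m + 4140) % 91).toNat, by omega⟩, by simp only; omega⟩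
  have hcase := odd_quotient_cases a b
  simp only [← hab] at hcase
  rcases hcase hm hmod (by rw [hdiv]; omega) with rfl | rfl | rfl | rfl
  · left; linarith
  · right; linarith
  · exfalso
    norm_num at hC
    have h0 : 0 ≤ C ∧ C ≤ 9 := by constructor <;> nlinarith
    obtain ⟨h1, h2⟩ := h0
    interval_cases C <;> norm_num at hC
  · exfalso
    norm_num at hC
    have h0 : 0 ≤ C ∧ C ≤ 9 := by constructor <;> nlinarith
    obtain ⟨h1, h2⟩ := h0
    interval_cases C <;> norm_num at hC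

end CfsgLib.GL23
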