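import Cfsg.Agent.Lib.GL23.Transfer
import Cfsg.Agent.Lib.GL23.Comb
import Cfsg.Agent.Lib.Characters.BrauerPerm
import Mathlib.GroupTheory.Sylow
import Mathlib.GroupTheory.IndexNormal
import Mathlib.GroupTheory.Subgroup.Simple

/-!
# Simple groups with an involution centralizer `GL(2, 3)`
-/

set_option autoImplicit false
set_option linter.style.haveILetI false

namespace CfsgLib.GL23

open Cfsg CfsgLib.Characters CfsgLib.BrauerPerm
open scoped ComplexConjugate

variable {G : Type*} [Group G]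

theorem not_comm_gl : ¬ ∀ x ∈ gl, ∀ y ∈ gl, tmul x y = tmul y x := by decide +kernel

theorem pS_central : ∀ x ∈ gl.filter pS, tmul x x = (1, 0, 0, 1) → x ≠ (1, 0, 0, 1) →
    (∀ y ∈ gl.filter pS, tmul x y = tmul y x) → x = (2, 0, 0, 2) := by decide +kernel

section

variable [Finite G] {t : G}

theorem sixteen_dvd_exactly (ht : orderOf t = 2) (e : Ct t ≃* M) : ¬ 2 ^ 5 ∣ Nat.card G := by
  intro h32
  haveI : Fact (Nat.Prime 2) := ⟨Nat.prime_two⟩
  let S₀ : Subgroup (Ct t) := (sub pS pS_one pS_mul).comap e.toMonoidHom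
  let H : Subgroup G := S₀.map (Ct t).subtype
  have hmem : ∀ h : Ct t, (h : G) ∈ H ↔ pS (cc e h) := fun h =>
    ⟨fun ⟨a, ha, e'⟩ => by rw [← Subtype.ext e' (a1 := a) (a2 := h)]; exact ha,
      fun hp => ⟨h, hp, rfl⟩⟩
  have hHC : H ≤ Ct t := Subgroup.map_subtype_le S₀
  have hH : Nat.card H = 2 ^ 4 := by
    rw [Subgroup.card_map_of_injective (Ct t).subtype_injective]
    rw [show Nat.card S₀ = Nat.card (sub pS pS_one pS_mul) from
      Nat.card_congr (e.toEquiv.subtypeEquiv fun _ => Iff.rfl), card_sub, card_pS]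
    rfl
  obtain ⟨K, hK, hHK⟩ := Sylow.exists_subgroup_card_pow_succ h32 hH
  have htH : t ∈ H := (hmem (tC t)).2 (by rw [cc_tC e ht]; decide +kernel)
  have hidx : (H.subgroupOf K).index = 2 := by
    have h1 := (H.subgroupOf K).index_mul_card
    rw [Nat.card_congr (Subgroup.subgroupOfEquivOfLe hHK).toEquiv, hH, hK] at h1
    omega
  have hN := Subgroup.normal_of_index_eq_two hidx
  have hKC : K ≤ Ct t := by
    intro x hx
    have hconj : ∀ g : G, g ∈ H → ∀ k : G, k ∈ K → k * g * k⁻¹ ∈ H := fun g hg k hk =>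
      hN.conj_mem (⟨g, hHK hg⟩ : K) hg ⟨k, hk⟩
    have hy := hconj t htH x hx
    have hyt : x * t * x⁻¹ = t := by
      refine (eq_tC_iff e ht ⟨_, hHC hy⟩).2 ?_
      refine pS_central _ (Finset.mem_filter.2 ⟨cc_mem e _, (hmem ⟨_, hHC hy⟩).1 hy⟩) ?_ ?_ ?_
      · rw [← cc_mul, ← cc_one e]
        refine congrArg (cc e) (Subtype.ext ?_)
        show x * t * x⁻¹ * (x * t * x⁻¹) = 1
        rw [show x * t * x⁻¹ * (x * t * x⁻¹) = x * (t * t) * x⁻¹ by group, sq_t ht]
        group
      · rw [← cc_one e]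
        intro h3
        exact t_ne_one ht (by simpa using congrArg Subtype.val (cc_injective e h3))
      · intro y hy'
        obtain ⟨hy0, hy1⟩ := Finset.mem_filter.1 hy'
        obtain ⟨b, rfl⟩ := cc_surj e hy0
        rw [← cc_mul, ← cc_mul]
        refine congrArg (cc e) (Subtype.ext ?_)
        show x * t * x⁻¹ * (b : G) = (b : G) * (x * t * x⁻¹)
        have hb : x⁻¹ * b * x⁻¹⁻¹ ∈ H := hconj _ ((hmem b).2 hy1) _ (inv_mem hx)
        have h4 : (x⁻¹ * b * x⁻¹⁻¹) * t = t * (x⁻¹ * b * x⁻¹⁻¹) := mem_Ct.1 (hHC hb)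
        calc x * t * x⁻¹ * (b : G) = x * (t * (x⁻¹ * b * x⁻¹⁻¹)) * x⁻¹ := by group
          _ = x * ((x⁻¹ * b * x⁻¹⁻¹) * t) * x⁻¹ := by rw [h4]
          _ = (b : G) * (x * t * x⁻¹) := by group
    exact mem_Ct.2 (mul_inv_eq_iff_eq_mul.1 hyt)
  have h5 := Subgroup.card_dvd_of_le hKC
  rw [hK, card_Ct e] at h5
  norm_num at h5

theorem not_central [IsSimpleGroup G] (ht : orderOf t = 2) (e : Ct t ≃* M) :
    ¬ ∀ x : G, t * x = x * t := by
  intro h
  have hc : Subgroup.center G = ⊤ := by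
    rcases Subgroup.Normal.eq_bot_or_eq_top (inferInstance : (Subgroup.center G).Normal) with
      hb | hb
    · have : t ∈ Subgroup.center G := Subgroup.mem_center_iff.2 fun x => (h x).symm
      rw [hb, Subgroup.mem_bot] at this
      exact absurd this (t_ne_one ht)
    · exact hb
  refine not_comm_gl fun x hx y hy => ?_
  obtain ⟨a, rfl⟩ := cc_surj e hx
  obtain ⟨b, rfl⟩ := cc_surj e hy
  rw [← cc_mul, ← cc_mul]
  refine congrArg (cc e) (Subtype.ext ?_)
  have hb : (b : G) ∈ Subgroup.center G := by rw [hc]; exact Subgroup.mem_top _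
  exact Subgroup.mem_center_iff.1 hb a

/-- No nonprincipal irreducible character has absolute value equal to its degree at `t`. -/
theorem norm_ne_degree [IsSimpleGroup G] (ht : orderOf t = 2) (e : Ct t ≃* M)
    (χ : IrrCharacter G) (hne : χ ≠ principalIrr G) :
    ‖(χ : G → ℂ) t‖ ≠ ‖(χ : G → ℂ) 1‖ := by
  haveI : Fintype G := Fintype.ofFinite G
  obtain ⟨χ', n, ρ, hρ, rfl⟩ := χ
  intro h
  change ‖ρ.character t‖ = ‖ρ.character 1‖ at h
  rw [Representation.char_one, Complex.norm_natCast] at h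
  obtain ⟨w, hw⟩ := (norm_char_eq_iff_scalar ρ t).1 h
  have hker : ρ.ker = ⊥ ∨ ρ.ker = ⊤ := Subgroup.Normal.eq_bot_or_eq_top inferInstance
  rcases hker with hk | hk
  · refine not_central ht e fun x => (MonoidHom.ker_eq_bot_iff ρ).1 hk ?_
    rw [map_mul, map_mul, hw]
    exact LinearMap.ext fun v => by simp
  · have hc : ρ.character = fun _ => (n : ℂ) := by
      funext g
      have hg : g ∈ ρ.ker := by rw [hk]; exact Subgroup.mem_top _
      rw [Representation.character, MonoidHom.mem_ker.1 hg]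
      simp
    have h0 : classInner ρ.character (fun _ : G => (1 : ℂ)) = 0 :=
      classInner_irr_ne ⟨n, ρ, hρ, rfl⟩ isIrrCharacter_one fun hh => hne (Subtype.ext hh)
    rw [hc, classInner] at h0
    simp at h0
    haveI := hρ
    have := CfsgLib.Characters.nontrivial_of_irreducible ρ
    subst h0
    exact not_subsingleton (Fin 0 → ℂ) inferInstance

theorem exists_int_value (ht : orderOf t = 2) (χ : IrrCharacter G) :
    ∃ z : ℤ, (χ : G → ℂ) t = z := by
  obtain ⟨χ', n, ρ, hρ, rfl⟩ := χ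
  obtain ⟨w, hw, -, hs⟩ := exists_eigenvalues ρ t
  have hz : ∀ i, ∃ z : ℤ, w i = z := fun i => by
    rcases sq_eq_one_iff.1 (show w i ^ 2 = 1 by rw [← ht]; exact hw i) with h | h
    · exact ⟨1, by simp [h]⟩
    · exact ⟨-1, by simp [h]⟩
  choose z hz using hz
  exact ⟨∑ i, z i, by
    show ρ.character t = _
    rw [hs, Int.cast_sum]
    exact Finset.sum_congr rfl fun i _ => hz i⟩

variable [Fintype G]

theorem sum_class_product [DecidableRel (IsConj : G → G → Prop)] (χ : IrrCharacter G) (t : G) :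
    ∑ a ∈ Finset.univ.filter (IsConj t), ∑ b ∈ Finset.univ.filter (IsConj t),
        (χ : G → ℂ) (a * b) =
      ((Nat.card {x : G // IsConj t x} : ℂ)) ^ 2 * ((χ : G → ℂ) t ^ 2 / (χ : G → ℂ) 1) := by
  obtain ⟨χ', n, ρ, hρ, rfl⟩ := χ
  haveI := hρ
  have hnc : (n : ℂ) ≠ 0 := by
    have h := irr_one_ne_zero (⟨ρ.character, n, ρ, hρ, rfl⟩ : IrrCharacter G)
    simpa [Representation.char_one] using h
  have hf : funEnd ρ (fun x => if IsConj t x then (1 : ℂ) else 0) =
      ∑ a ∈ Finset.univ.filter (IsConj t), ρ a := by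
    simp [funEnd, Finset.sum_filter, ite_smul]
  have h := congrArg (fun T => LinearMap.trace ℂ _ (T * T)) (funEnd_classSum ρ t)
  simp only [hf, Finset.sum_mul, Finset.mul_sum, map_sum, ← map_mul, smul_mul_assoc,
    mul_smul_comm, smul_smul, map_smul, one_mul, LinearMap.trace_one, smul_eq_mul] at h
  simp only [Module.finrank_fin_fun] at h
  show ∑ a ∈ _, ∑ b ∈ _, ρ.character (a * b) = _ * (ρ.character t ^ 2 / ρ.character 1)
  rw [Representation.char_one, Module.finrank_fin_fun]
  rw [Finset.sum_comm]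
  refine (Eq.trans ?_ h).trans ?_
  · rfl
  · field_simp

theorem order_eq [IsSimpleGroup G] (ht : orderOf t = 2) (e : Ct t ≃* M) :
    Nat.card G = 5616 ∨ Nat.card G = 7920 := by
  classical
  letI : Fintype M := Fintype.ofFinite M
  have svA : ∀ i, i ∉ ({1, 4, 5, 6, 7} : Finset (Fin 8)) → vA i = 0 := by
    intro i hi; fin_cases i <;> simp [vA] at hi ⊢
  have svD : ∀ i, i ∉ ({1, 4, 5, 6, 7} : Finset (Fin 8)) → vD i = 0 := by
    intro i hi; fin_cases i <;> simp [vD] at hi ⊢
  have svE : ∀ i, i ∉ ({1, 4, 5, 6, 7} : Finset (Fin 8)) → vE i = 0 := by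
    intro i hi; fin_cases i <;> simp [vE] at hi ⊢
  let FA : G → ℂ := indFun (Ct t) (th e vA)
  let FD : G → ℂ := indFun (Ct t) (th e vD)
  let FE : G → ℂ := indFun (Ct t) (th e vE)
  have gA : IsGeneralizedCharacter G FA :=
    CfsgLib.CharArtin.isGeneralizedCharacter_indFun _ (isGeneralized_th e isGeneralized_A)
  have gD : IsGeneralizedCharacter G FD :=
    CfsgLib.CharArtin.isGeneralizedCharacter_indFun _ (isGeneralized_th e isGeneralized_D)
  have gE : IsGeneralizedCharacter G FE :=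
    CfsgLib.CharArtin.isGeneralizedCharacter_indFun _ (isGeneralized_th e isGeneralized_E)
  choose mA hmA using (isGeneralizedCharacter_iff.1 gA).2
  choose mD hmD using (isGeneralizedCharacter_iff.1 gD).2
  choose mE hmE using (isGeneralizedCharacter_iff.1 gE).2
  choose z hz using exists_int_value (G := G) ht
  choose dd hd0 hd using fun χ : IrrCharacter G => irr_exists_degree χ.2
  -- linear functionals in terms of the coefficients
  have ev : ∀ {F : G → ℂ} {m : IrrCharacter G → ℤ}, IsClassFunction G F →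
      (∀ χ : IrrCharacter G, classInner F (χ : G → ℂ) = m χ) →
      ∀ x, F x = ∑ χ, (m χ : ℂ) * (χ : G → ℂ) x := by
    intro F m hF hm x
    conv_lhs => rw [classFunction_eq_sum hF]
    simp [hm]
  have ip : ∀ {F F' : G → ℂ} {m m' : IrrCharacter G → ℤ}, IsClassFunction G F' →
      (∀ χ : IrrCharacter G, classInner F (χ : G → ℂ) = m χ) →
      (∀ χ : IrrCharacter G, classInner F' (χ : G → ℂ) = m' χ) →
      classInner F F' = ((∑ χ, m χ * m' χ : ℤ) : ℂ) := by
    intro F F' m m' hF' hm hm'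
    rw [classInner_eq_sum_mul hF']
    simp [hm, hm']
  have cA := isClassFunction_of_isGeneralizedCharacter gA
  have cD := isClassFunction_of_isGeneralizedCharacter gD
  have cE := isClassFunction_of_isGeneralizedCharacter gE
  have iAA := (inner_ind e ht svA svA isGeneralized_A).symm.trans (ip cA hmA hmA)
  have iDD := (inner_ind e ht svD svD isGeneralized_D).symm.trans (ip cD hmD hmD)
  have iEE := (inner_ind e ht svE svE isGeneralized_E).symm.trans (ip cE hmE hmE)
  have iAD := (inner_ind e ht svA svD isGeneralized_D).symm.trans (ip cD hmA hmD)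
  have iAE := (inner_ind e ht svA svE isGeneralized_E).symm.trans (ip cE hmA hmE)
  have iED := (inner_ind e ht svE svD isGeneralized_D).symm.trans (ip cD hmE hmD)
  simp [Fin.sum_univ_eight, clsSize, vA, vD, vE, conj_aC, map_ofNat, map_neg, aC_sq]
    at iAA iDD iEE iAD iAE iED
  norm_num at iAA iDD iEE iAD iAE iED
  -- the conjugate of the second function
  let vD' : Fin 8 → ℂ := fun i => conj (vD i)
  have svD' : ∀ i, i ∉ ({1, 4, 5, 6, 7} : Finset (Fin 8)) → vD' i = 0 := fun i hi => by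
    simp [vD', svD i hi]
  have hD'eq : indFun (Ct t) (th e vD') = fun x => conj (FD x) :=
    funext fun x => CfsgLib.Induction.indFun_conj_apply (Ct t) (th e vD) x
  have hconjcoef : ∀ {F : G → ℂ} {m : IrrCharacter G → ℤ},
      (∀ χ : IrrCharacter G, classInner F (χ : G → ℂ) = m χ) →
      ∀ χ : IrrCharacter G, classInner (fun x => conj (F x)) (χ : G → ℂ) = m (conjIrr χ) := by
    intro F m hm χ
    have h := congrArg conj (hm (conjIrr χ))
    simp only [classInner, map_mul, map_inv₀, map_natCast, map_sum, map_intCast, conjIrr_apply,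
      Complex.conj_conj] at h
    exact h
  have hreal : ∀ {v : Fin 8 → ℂ}, (∀ i, conj (v i) = v i) → ∀ {m : IrrCharacter G → ℤ},
      (∀ χ : IrrCharacter G, classInner (indFun (Ct t) (th e v)) (χ : G → ℂ) = m χ) →
      ∀ χ, m (conjIrr χ) = m χ := by
    intro v hv m hm χ
    have h1 := hconjcoef hm χ
    have h2 : (fun x => conj (indFun (Ct t) (th e v) x)) = indFun (Ct t) (th e v) := by
      funext x
      rw [← CfsgLib.Induction.indFun_conj_apply]
      congr 1
      exact funext fun h => hv _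
    rw [h2, hm] at h1
    exact_mod_cast h1.symm
  have hvA : ∀ i, conj (vA i) = vA i := by intro i; fin_cases i <;> simp [vA, map_ofNat]
  have hvE : ∀ i, conj (vE i) = vE i := by intro i; fin_cases i <;> simp [vE, map_ofNat]
  have hAσ := hreal hvA hmA
  have hEσ := hreal hvE hmE
  have hgD' : IsGeneralizedCharacter M (cf vD') := isGeneralizedCharacter_conj isGeneralized_D
  have iDD' := (inner_ind e ht svD svD' hgD').symm.trans
    (ip (isClassFunction_ind e vD' hgD') hmD (fun χ => by rw [hD'eq]; exact hconjcoef hmD χ))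
  simp [Fin.sum_univ_eight, clsSize, vD, vD', conj_aC, map_ofNat, map_neg, aC_sq] at iDD'
  norm_num at iDD'
  -- the principal character
  have oA := (hmA (principalIrr G)).symm.trans (inner_ind_one e vA)
  have oD := (hmD (principalIrr G)).symm.trans (inner_ind_one e vD)
  have oE := (hmE (principalIrr G)).symm.trans (inner_ind_one e vE)
  simp [Fin.sum_univ_eight, clsSize, vA, vD, vE] at oA oD oE
  norm_num at oA oD oE
  ring_nf at oA oD oE
  -- degrees and values at the involution
  have deg : ∀ {F : G → ℂ} {m : IrrCharacter G → ℤ}, IsClassFunction G F →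
      (∀ χ : IrrCharacter G, classInner F (χ : G → ℂ) = m χ) → F 1 = 0 →
      ∑ χ, m χ * (dd χ : ℤ) = 0 := by
    intro F m hF hm h1
    rw [ev hF hm] at h1
    simp only [hd] at h1
    exact_mod_cast h1
  have val : ∀ {F : G → ℂ} {m : IrrCharacter G → ℤ} {r : ℤ}, IsClassFunction G F →
      (∀ χ : IrrCharacter G, classInner F (χ : G → ℂ) = m χ) → F t = r →
      ∑ χ, m χ * z χ = r := by
    intro F m r hF hm h1
    rw [ev hF hm] at h1
    simp only [hz] at h1
    exact_mod_cast h1
  have hP1 : (dd (principalIrr G) : ℤ) = 1 := by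
    have h := hd (principalIrr G)
    rw [principalIrr_apply] at h
    exact_mod_cast h.symm
  have hPt : z (principalIrr G) = 1 := by
    have h := hz (principalIrr G)
    rw [principalIrr_apply] at h
    exact_mod_cast h.symm
  have hσP : conjIrr (principalIrr G) = principalIrr G :=
    Subtype.ext (funext fun g => by simp)
  have hzσ : ∀ χ, z (conjIrr χ) = z χ := by
    intro χ
    have h := hz (conjIrr χ)
    rw [conjIrr_apply, hz χ, map_intCast] at h
    exact_mod_cast h.symm
  have hcol : ∑ χ, z χ ^ 2 ≤ 48 := by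
    have h := column_orth t t
    rw [if_pos (IsConj.refl t), card_Ct e] at h
    simp only [hz, map_intCast] at h
    have h' : ∑ χ, z χ * z χ = 48 := by exact_mod_cast h
    simp only [sq, h', le_refl]
  -- the structure constants
  have main : ∀ {v : Fin 8 → ℂ}, (∀ i, i ∉ ({1, 4, 5, 6, 7} : Finset (Fin 8)) → v i = 0) →
      ∀ {m : IrrCharacter G → ℤ}, IsClassFunction G (indFun (Ct t) (th e v)) →
      (∀ χ : IrrCharacter G, classInner (indFun (Ct t) (th e v)) (χ : G → ℂ) = m χ) →
      ∀ (w : Fin 8 → ℂ), (∀ x : Ct t, inS (cc e x) →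
        ((Finset.univ.filter fun a : G => IsConj t a ∧ IsConj t (a * x)).card : ℂ) =
          w (cls (cc e x))) →
      ∀ r : ℤ, ∑ i, (clsSize i : ℂ) * (v i * w i) = r →
      ((Nat.card G : ℤ) : ℚ) * ∑ χ, (m χ : ℚ) * ((z χ : ℚ) ^ 2 / ((dd χ : ℤ) : ℚ)) = 48 * r := by
    intro v hv m hF hm w hw r hr
    have h1 := sum_involution_products e ht hv w hw
    simp only [ev hF hm] at h1
    rw [Finset.sum_congr rfl (fun a _ => Finset.sum_comm), Finset.sum_comm] at h1
    simp only [← Finset.mul_sum, sum_class_product, hz, hd, hr] at h1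
    have hk : (Nat.card {x : G // IsConj t x} : ℂ) = (Nat.card G : ℂ) / 48 := by
      rw [← card_isConj_mul_card_centralizer t, card_Ct e]
      push_cast
      ring
    rw [hk] at h1
    have hgne : (Nat.card G : ℂ) ≠ 0 := Nat.cast_ne_zero.2 Nat.card_pos.ne'
    have h2 : (Nat.card G : ℂ) * ∑ χ, (m χ : ℂ) * ((z χ : ℂ) ^ 2 / (dd χ : ℂ)) = 48 * r := by
      refine mul_left_cancel₀ hgne ?_
      have h3 : ∀ χ, (m χ : ℂ) * (((Nat.card G : ℂ) / 48) ^ 2 * ((z χ : ℂ) ^ 2 / (dd χ : ℂ))) =
          ((Nat.card G : ℂ) / 48) ^ 2 * ((m χ : ℂ) * ((z χ : ℂ) ^ 2 / (dd χ : ℂ))) :=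
        fun χ => by ring
      rw [Finset.sum_congr rfl (fun χ _ => h3 χ), ← Finset.mul_sum] at h1
      linear_combination 2304 * h1
    apply Rat.cast_injective (α := ℂ)
    push_cast
    exact h2
  obtain ⟨c, hc, LA, LD, LE⟩ : ∃ c : ℤ, (c = 0 ∨ c = 1) ∧
      ((Nat.card G : ℤ) : ℚ) * ∑ χ, (mA χ : ℚ) * ((z χ : ℚ) ^ 2 / ((dd χ : ℤ) : ℚ)) = 9216 * c ∧
      ((Nat.card G : ℤ) : ℚ) * ∑ χ, (mD χ : ℚ) * ((z χ : ℚ) ^ 2 / ((dd χ : ℤ) : ℚ)) = 0 ∧
      ((Nat.card G : ℤ) : ℚ) * ∑ χ, (mE χ : ℚ) * ((z χ : ℚ) ^ 2 / ((dd χ : ℤ) : ℚ)) = 4608 * c := by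
    rcases involution_dichotomy e ht with hall | hiso
    · have hw : ∀ x : Ct t, inS (cc e x) →
          ((Finset.univ.filter fun a : G => IsConj t a ∧ IsConj t (a * x)).card : ℂ) =
            (fun i => (invTbl i : ℂ)) (cls (cc e x)) :=
        fun x hx => by rw [count_fused e ht hall x hx]
      refine ⟨1, Or.inr rfl, ?_, ?_, ?_⟩
      · rw [main svA cA hmA (fun i => (invTbl i : ℂ)) hw 192 (by simp [Fin.sum_univ_eight, clsSize, vA, invTbl]; norm_num)]
        norm_num
      · rw [main svD cD hmD (fun i => (invTbl i : ℂ)) hw 0 (by simp [Fin.sum_univ_eight, clsSize, vD, invTbl]; norm_num)]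
        norm_num
      · rw [main svE cE hmE (fun i => (invTbl i : ℂ)) hw 96 (by simp [Fin.sum_univ_eight, clsSize, vE, invTbl]; norm_num)]
        norm_num
    · have hw : ∀ x : Ct t, inS (cc e x) →
          ((Finset.univ.filter fun a : G => IsConj t a ∧ IsConj t (a * x)).card : ℂ) =
            (fun _ => (0 : ℂ)) (cls (cc e x)) :=
        fun x hx => by rw [count_isolated e ht hiso x hx, Nat.cast_zero]
      refine ⟨0, Or.inl rfl, ?_, ?_, ?_⟩
      · rw [main svA cA hmA (fun _ => (0 : ℂ)) hw 0 (by simp)]; norm_num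
      · rw [main svD cD hmD (fun _ => (0 : ℂ)) hw 0 (by simp)]; norm_num
      · rw [main svE cE hmE (fun _ => (0 : ℂ)) hw 0 (by simp)]; norm_num
  have hscal : ∀ χ, χ ≠ principalIrr G → z χ ^ 2 ≠ (dd χ : ℤ) ^ 2 := by
    intro χ hne h
    refine norm_ne_degree ht e χ hne ?_
    rw [hz, hd]
    rcases sq_eq_sq_iff_eq_or_eq_neg.1 h with h | h <;> simp [h]
  obtain ⟨A, C, hA0, hA1, -, -, hg, hCeq⟩ := order_system conjIrr
    (fun χ => Subtype.ext (funext fun g => by simp)) z (fun χ => (dd χ : ℤ)) mA mD mE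
    (principalIrr G) (fun χ => by have := hd0 χ; omega) hzσ hAσ hEσ
    (by simp only [sq]; exact_mod_cast iAA.symm) (by simp only [sq]; exact_mod_cast iDD.symm)
    (by simp only [sq]; exact_mod_cast iEE.symm) (by exact_mod_cast iAD.symm)
    (by exact_mod_cast iAE.symm) (by exact_mod_cast iED.symm) (by exact_mod_cast iDD'.symm)
    (by exact_mod_cast oA) (by exact_mod_cast oD) (by exact_mod_cast oE) hPt hP1 hσP
    (deg cA hmA (ind_apply_one e svA)) (deg cD hmD (ind_apply_one e svD))
    (deg cE hmE (ind_apply_one e svE))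
    (val cA hmA ((ind_apply_t e ht svA).trans (by simp [vA])))
    (val cD hmD ((ind_apply_t e ht svD).trans (by simp [vD])))
    (val cE hmE ((ind_apply_t e ht svE).trans (by simp [vE])))
    hcol (Nat.card G : ℤ) (by exact_mod_cast Nat.card_pos) c hc LA LD LE hscal
  have h16 : ∃ l : ℤ, 0 ≤ l ∧ (Nat.card G : ℤ) = 16 * (2 * l + 1) := by
    have h48 : 48 ∣ Nat.card G := card_Ct e ▸ Subgroup.card_subgroup_dvd_card (Ct t)
    obtain ⟨q, hq⟩ : 16 ∣ Nat.card G := Nat.dvd_trans (by norm_num) h48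
    have hodd : q % 2 = 1 := by
      by_contra hq2
      exact sixteen_dvd_exactly ht e ⟨q / 2, by omega⟩
    exact ⟨(q / 2 : ℕ), by positivity, by omega⟩
  rcases order_cases h16 hA0 hA1 hg hCeq with h | h
  · left; exact_mod_cast h
  · right; exact_mod_cast h

end

end CfsgLib.GL23
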