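import Cfsg.Agent.Lib.Characters.Clifford
import Cfsg.Agent.Lib.Characters.Generalized
import Cfsg.Agent.Lib.Characters.Artin
import Mathlib.LinearAlgebra.Matrix.GeneralLinearGroup.Defs
import Mathlib.LinearAlgebra.Matrix.Determinant.Basic
import Mathlib.Data.ZMod.Basic
import Mathlib.RingTheory.RootsOfUnity.Complex

/-!
# Explicit class functions on `GL(2, 3)`
-/

set_option autoImplicit false
set_option linter.style.haveILetI false

namespace CfsgLib.GL23

open Cfsg CfsgLib.Characters
open scoped ComplexConjugate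

/-- `GL(2, 3)`. -/
abbrev M : Type := Matrix.GeneralLinearGroup (Fin 2) (ZMod 3)

/-- Coordinates of a `2 × 2` matrix. -/
abbrev T : Type := ZMod 3 × ZMod 3 × ZMod 3 × ZMod 3

/-- The coordinates of an element. -/
def coords (g : M) : T :=
  ((g : Matrix (Fin 2) (Fin 2) (ZMod 3)) 0 0, (g : Matrix (Fin 2) (Fin 2) (ZMod 3)) 0 1,
    (g : Matrix (Fin 2) (Fin 2) (ZMod 3)) 1 0, (g : Matrix (Fin 2) (Fin 2) (ZMod 3)) 1 1)

/-- Matrix product in coordinates. -/
def tmul (x y : T) : T :=
  (x.1 * y.1 + x.2.1 * y.2.2.1, x.1 * y.2.1 + x.2.1 * y.2.2.2,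
    x.2.2.1 * y.1 + x.2.2.2 * y.2.2.1, x.2.2.1 * y.2.1 + x.2.2.2 * y.2.2.2)

/-- Determinant in coordinates. -/
def tdet (x : T) : ZMod 3 := x.1 * x.2.2.2 - x.2.1 * x.2.2.1

/-- Inverse in coordinates. -/
def tinv (x : T) : T :=
  (tdet x * x.2.2.2, -(tdet x * x.2.1), -(tdet x * x.2.2.1), tdet x * x.1)

/-- Conjugation in coordinates. -/
def tconj (x g : T) : T := tmul (tmul (tinv x) g) x

theorem coords_injective : Function.Injective coords := by
  intro a b h
  simp only [coords, Prod.mk.injEq] at h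
  obtain ⟨h1, h2, h3, h4⟩ := h
  apply Units.ext
  ext i j
  fin_cases i <;> fin_cases j <;> assumption

theorem coords_mul (a b : M) : coords (a * b) = tmul (coords a) (coords b) := by
  simp [coords, tmul, Matrix.mul_apply, Fin.sum_univ_two]

theorem coords_one : coords 1 = (1, 0, 0, 1) := by simp [coords]

theorem tdet_coords (g : M) : tdet (coords g) ≠ 0 := by
  have h : IsUnit (g : Matrix (Fin 2) (Fin 2) (ZMod 3)).det :=
    (Matrix.isUnit_iff_isUnit_det _).1 g.isUnit
  simpa [tdet, coords, Matrix.det_fin_two] using h.ne_zero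

theorem eq_tinv_of_mul : ∀ x y : T, tmul x y = (1, 0, 0, 1) → y = tinv x := by decide +kernel

theorem coords_inv (g : M) : coords g⁻¹ = tinv (coords g) :=
  eq_tinv_of_mul _ _ (by rw [← coords_mul, mul_inv_cancel, coords_one])

theorem coords_conj (x g : M) : coords (x⁻¹ * g * x) = tconj (coords x) (coords g) := by
  rw [coords_mul, coords_mul, coords_inv, tconj]

theorem exists_coords {x : T} (hx : tdet x ≠ 0) : ∃ g : M, coords g = x := by
  refine ⟨Matrix.GeneralLinearGroup.mkOfDetNeZero !![x.1, x.2.1; x.2.2.1, x.2.2.2]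
    (by simpa [tdet, Matrix.det_fin_two] using hx), ?_⟩
  simp only [coords, Matrix.GeneralLinearGroup.mkOfDetNeZero, Matrix.GeneralLinearGroup.mk']
  rfl

/-- The invertible coordinate tuples. -/
def gl : Finset T := Finset.univ.filter fun x => tdet x ≠ 0

theorem map_univ [Fintype M] : Finset.univ.map ⟨coords, coords_injective⟩ = gl := by
  ext x
  simp only [Finset.mem_map, Finset.mem_univ, true_and, gl, Finset.mem_filter,
    Function.Embedding.coeFn_mk]
  exact ⟨fun ⟨g, hg⟩ => hg ▸ tdet_coords g, exists_coords⟩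

theorem sum_coords [Fintype M] {β : Type*} [AddCommMonoid β] (F : T → β) :
    ∑ g : M, F (coords g) = ∑ x ∈ gl, F x := by
  rw [← map_univ, Finset.sum_map]
  rfl

theorem card_M : Nat.card M = 48 := by
  classical
  haveI : Fintype M := Fintype.ofFinite M
  rw [Nat.card_eq_fintype_card, ← Finset.card_univ,
    ← Finset.card_map ⟨coords, coords_injective⟩, map_univ]
  decide +kernel

/-- Class of an element: `1, -1, s, u, -u, f, e, -e` with `s` a reflection, `u` of order three,
`f` of order four and `e` of order eight. -/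
def cls (x : T) : Fin 8 :=
  if tdet x = 1 then
    if x.1 + x.2.2.2 = 2 then (if x = (1, 0, 0, 1) then 0 else 3)
    else if x.1 + x.2.2.2 = 1 then (if x = (2, 0, 0, 2) then 1 else 4) else 5
  else if x.1 + x.2.2.2 = 0 then 2 else if x.1 + x.2.2.2 = 2 then 6 else 7

/-- Class sizes. -/
def clsSize : Fin 8 → ℕ := ![1, 1, 12, 8, 8, 6, 6, 6]

theorem card_cls : ∀ i, (gl.filter fun x => cls x = i).card = clsSize i := by decide +kernel

theorem cls_conj : ∀ g ∈ gl, ∀ x ∈ gl, cls (tconj x g) = cls g := by decide +kernel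

theorem sum_cls [Fintype M] (v : Fin 8 → ℂ) :
    ∑ g : M, v (cls (coords g)) = ∑ i, (clsSize i : ℂ) * v i := by
  rw [sum_coords (fun x => v (cls x)), ← Finset.sum_fiberwise gl cls fun x => v (cls x)]
  refine Finset.sum_congr rfl fun i _ => ?_
  rw [Finset.sum_congr rfl (g := fun _ => v i) fun x hx => by rw [(Finset.mem_filter.1 hx).2],
    Finset.sum_const, nsmul_eq_mul, card_cls]

theorem isClassFunction_cls (v : Fin 8 → ℂ) : IsClassFunction M fun g => v (cls (coords g)) := by
  intro a b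
  refine congrArg v ?_
  rw [show b * a * b⁻¹ = (b⁻¹)⁻¹ * a * b⁻¹ by simp, coords_conj]
  exact cls_conj _ (Finset.mem_filter.2 ⟨Finset.mem_univ _, tdet_coords a⟩) _
    (Finset.mem_filter.2 ⟨Finset.mem_univ _, tdet_coords b⁻¹⟩)

/-- A subgroup given by a decidable condition on coordinates. -/
def sub (p : T → Prop) (h1 : p (1, 0, 0, 1)) (hm : ∀ x y, p x → p y → p (tmul x y)) :
    Subgroup M where
  carrier := {g | p (coords g)}
  one_mem' := by show p (coords 1); rw [coords_one]; exact h1
  mul_mem' := fun {a b} ha hb => by show p (coords (a * b)); rw [coords_mul]; exact hm _ _ ha hb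
  inv_mem' := fun {a} ha => by
    have hpow : ∀ n : ℕ, p (coords (a ^ n)) := by
      intro n
      induction n with
      | zero => rw [pow_zero, coords_one]; exact h1
      | succ n ih => rw [pow_succ, coords_mul]; exact hm _ _ ih ha
    show p (coords a⁻¹)
    rw [inv_eq_of_mul_eq_one_right (b := a ^ (orderOf a - 1)) (by
      rw [← pow_succ', Nat.sub_add_cancel (orderOf_pos a), pow_orderOf_eq_one])]
    exact hpow _

theorem card_sub (p : T → Prop) [DecidablePred p] (h1 : p (1, 0, 0, 1))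
    (hm : ∀ x y, p x → p y → p (tmul x y)) :
    Nat.card (sub p h1 hm) = (gl.filter p).card := by
  classical
  haveI : Fintype M := Fintype.ofFinite M
  rw [← map_univ, Finset.filter_map, Finset.card_map, Nat.card_eq_fintype_card,
    Fintype.card_subtype]
  congr 1
  ext g
  simp only [Finset.mem_filter, Finset.mem_univ, true_and, Function.comp_apply,
    Function.Embedding.coeFn_mk]
  rfl

/-- Number of elements conjugating `g` into the subgroup with exponent `k`. -/
def cnt {m : ℕ} (p : T → Prop) [DecidablePred p] (l : T → Fin m) (g : T) (k : Fin m) : ℕ :=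
  (gl.filter fun x => p (tconj x g) ∧ l (tconj x g) = k).card

/-- The linear function with exponents `l`. -/
noncomputable def lin {m : ℕ} (ζ : ℂ) (l : T → Fin m) (H : Subgroup M) : H → ℂ :=
  fun h => ζ ^ (l (coords (h : M))).val

theorem isGeneralized_ind [Fintype M] {m : ℕ} {ζ : ℂ} (hζ : ζ ^ m = 1) (p : T → Prop)
    (h1 : p (1, 0, 0, 1)) (hm : ∀ x y, p x → p y → p (tmul x y)) (l : T → Fin m)
    (hl1 : (l (1, 0, 0, 1)).val = 0)
    (hl : ∀ x y, p x → p y → (l (tmul x y)).val = ((l x).val + (l y).val) % m) :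
    IsGeneralizedCharacter M (indFun (sub p h1 hm) (lin ζ l _)) := by
  refine CfsgLib.CharArtin.isGeneralizedCharacter_indFun _
    (isGeneralizedCharacter_of_isCharacter ?_)
  let f : sub p h1 hm →* ℂ :=
    { toFun := lin ζ l _
      map_one' := by show ζ ^ (l (coords 1)).val = 1; rw [coords_one, hl1, pow_zero]
      map_mul' := fun a b => by
        show ζ ^ (l (coords ((a : M) * b))).val = _
        rw [coords_mul, hl _ _ a.2 b.2, ← pow_eq_pow_mod _ hζ, pow_add]
        rfl }
  exact CfsgLib.Induction.isCharacter_monoidHom f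

theorem ind_apply [Fintype M] {m : ℕ} (ζ : ℂ) (p : T → Prop) [DecidablePred p]
    (h1 : p (1, 0, 0, 1)) (hm : ∀ x y, p x → p y → p (tmul x y)) (l : T → Fin m) (g : M) :
    indFun (sub p h1 hm) (lin ζ l _) g =
      ((gl.filter p).card : ℂ)⁻¹ * ∑ k : Fin m, (cnt p l (coords g) k : ℂ) * ζ ^ k.val := by
  classical
  rw [CfsgLib.Induction.indFun_apply, card_sub p h1 hm]
  congr 1
  have hx : ∀ x : M, extendByZero (sub p h1 hm) (lin ζ l _) (x⁻¹ * g * x) =
      ∑ k : Fin m, if p (tconj (coords x) (coords g)) ∧ l (tconj (coords x) (coords g)) = k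
        then ζ ^ k.val else 0 := by
    intro x
    by_cases hp : p (tconj (coords x) (coords g))
    · have hmem : x⁻¹ * g * x ∈ sub p h1 hm := by
        show p (coords (x⁻¹ * g * x))
        rwa [coords_conj]
      rw [CfsgLib.Induction.extendByZero_mem _ _ hmem]
      simp only [hp, true_and, Finset.sum_ite_eq, Finset.mem_univ, if_true, lin, coords_conj]
    · have hmem : x⁻¹ * g * x ∉ sub p h1 hm := by
        show ¬ p (coords (x⁻¹ * g * x))
        rwa [coords_conj]
      rw [CfsgLib.Induction.extendByZero_notMem _ _ hmem]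
      simp [hp]
  rw [Finset.sum_congr rfl fun x _ => hx x,
    sum_coords (fun y => ∑ k : Fin m, if p (tconj y (coords g)) ∧ l (tconj y (coords g)) = k
      then ζ ^ k.val else 0), Finset.sum_comm]
  refine Finset.sum_congr rfl fun k _ => ?_
  rw [← Finset.sum_filter, Finset.sum_const, nsmul_eq_mul]
  rfl

/-! ## The subgroups and their linear characters -/

/-- Upper triangular matrices. -/
def pB (x : T) : Prop := x.2.2.1 = 0 ∧ tdet x ≠ 0

/-- A Sylow `2`-subgroup. -/
def pS (x : T) : Prop :=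
  ((x.2.2.2 = x.1 ∧ x.2.1 + x.2.2.1 = 0) ∨ (x.2.2.2 + x.1 = 0 ∧ x.2.1 = x.2.2.1)) ∧ tdet x ≠ 0

/-- A cyclic subgroup of order eight. -/
def pC (x : T) : Prop := (x.2.2.2 = x.1 ∧ x.2.1 + x.2.2.1 = 0) ∧ tdet x ≠ 0

instance : DecidablePred pB := fun _ => inferInstanceAs (Decidable (_ ∧ _))
instance : DecidablePred pS := fun _ => inferInstanceAs (Decidable (_ ∧ _))
instance : DecidablePred pC := fun _ => inferInstanceAs (Decidable (_ ∧ _))

/-- The trivial exponent. -/
def lOne (_ : T) : Fin 2 := 0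

/-- The exponent of the determinant. -/
def lDet (x : T) : Fin 2 := if tdet x = 1 then 0 else 1

/-- The exponent of the top left entry. -/
def lA (x : T) : Fin 2 := if x.1 = 1 then 0 else 1

/-- The discrete logarithm in the cyclic subgroup of order eight. -/
def lC (x : T) : Fin 8 :=
  if (x.1, x.2.2.1) = ((1 : ZMod 3), (0 : ZMod 3)) then 0 else
  if (x.1, x.2.2.1) = ((1 : ZMod 3), (1 : ZMod 3)) then 1 else
  if (x.1, x.2.2.1) = ((0 : ZMod 3), (2 : ZMod 3)) then 2 else
  if (x.1, x.2.2.1) = ((1 : ZMod 3), (2 : ZMod 3)) then 3 else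
  if (x.1, x.2.2.1) = ((2 : ZMod 3), (0 : ZMod 3)) then 4 else
  if (x.1, x.2.2.1) = ((2 : ZMod 3), (2 : ZMod 3)) then 5 else
  if (x.1, x.2.2.1) = ((0 : ZMod 3), (1 : ZMod 3)) then 6 else 7

theorem pB_mul : ∀ x y, pB x → pB y → pB (tmul x y) := by decide +kernel
theorem pS_mul : ∀ x y, pS x → pS y → pS (tmul x y) := by decide +kernel
theorem pC_mul : ∀ x y, pC x → pC y → pC (tmul x y) := by decide +kernel

theorem pB_one : pB (1, 0, 0, 1) := by decide +kernel
theorem pS_one : pS (1, 0, 0, 1) := by decide +kernel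
theorem pC_one : pC (1, 0, 0, 1) := by decide +kernel

theorem lDet_mul : ∀ x y, pB x → pB y →
    (lDet (tmul x y)).val = ((lDet x).val + (lDet y).val) % 2 := by decide +kernel
theorem lDet_mul' : ∀ x y, tdet x ≠ 0 → tdet y ≠ 0 →
    (lDet (tmul x y)).val = ((lDet x).val + (lDet y).val) % 2 := by decide +kernel
theorem lA_mul : ∀ x y, pB x → pB y →
    (lA (tmul x y)).val = ((lA x).val + (lA y).val) % 2 := by decide +kernel
theorem lC_mul : ∀ x y, pC x → pC y →
    (lC (tmul x y)).val = ((lC x).val + (lC y).val) % 8 := by decide +kernel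

theorem card_pB : (gl.filter pB).card = 12 := by decide +kernel
theorem card_pS : (gl.filter pS).card = 16 := by decide +kernel
theorem card_pC : (gl.filter pC).card = 8 := by decide +kernel

theorem cnt_one_B : ∀ g ∈ gl, cnt pB lOne g 0 = ![48, 48, 24, 12, 12, 0, 0, 0] (cls g) ∧
    cnt pB lOne g 1 = 0 := by decide +kernel
theorem cnt_det_B : ∀ g ∈ gl, cnt pB lDet g 0 = ![48, 48, 0, 12, 12, 0, 0, 0] (cls g) ∧
    cnt pB lDet g 1 = ![0, 0, 24, 0, 0, 0, 0, 0] (cls g) := by decide +kernel
theorem cnt_a_B : ∀ g ∈ gl, cnt pB lA g 0 = ![48, 0, 12, 12, 0, 0, 0, 0] (cls g) ∧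
    cnt pB lA g 1 = ![0, 48, 12, 0, 12, 0, 0, 0] (cls g) := by decide +kernel
theorem cnt_one_S : ∀ g ∈ gl, cnt pS lOne g 0 = ![48, 48, 16, 0, 0, 48, 16, 16] (cls g) ∧
    cnt pS lOne g 1 = 0 := by decide +kernel

/-- The counts for the cyclic subgroup of order eight. -/
def tblC : Fin 8 → Fin 8 → ℕ :=
  ![![48, 0, 0, 0, 0, 0, 0, 0], ![0, 0, 0, 0, 48, 0, 0, 0], fun _ => 0, fun _ => 0, fun _ => 0,
    ![0, 0, 8, 0, 0, 0, 8, 0], ![0, 8, 0, 8, 0, 0, 0, 0], ![0, 0, 0, 0, 0, 8, 0, 8]]

theorem cnt_C : ∀ g ∈ gl, ∀ k, cnt pC lC g k = tblC (cls g) k := by decide +kernel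

/-! ## Three generalized characters -/

/-- A primitive eighth root of unity. -/
noncomputable def z8 : ℂ := Complex.exp (2 * Real.pi * Complex.I / 8)

theorem z8_pow : z8 ^ 8 = 1 :=
  (by simpa [z8] using Complex.isPrimitiveRoot_exp 8 (by norm_num) : IsPrimitiveRoot z8 8).pow_eq_one

theorem z8_four : z8 ^ 4 = -1 := by
  have h : IsPrimitiveRoot z8 8 := by simpa [z8] using Complex.isPrimitiveRoot_exp 8 (by norm_num)
  rcases sq_eq_one_iff.1 (show (z8 ^ 4) ^ 2 = 1 by rw [← pow_mul]; exact z8_pow) with h1 | h1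
  · exact absurd h1 (h.pow_ne_one_of_pos_of_lt (by norm_num) (by norm_num))
  · exact h1

/-- The irrationality `± i √2`. -/
noncomputable def aC : ℂ := z8 + z8 ^ 3

theorem aC_sq : aC * aC = -2 := by
  unfold aC
  linear_combination (z8 ^ 2 + 2) * z8_four

theorem conj_z8 : conj z8 = z8 ^ 7 := by
  have hn : ‖z8‖ = 1 := Complex.norm_eq_one_of_pow_eq_one z8_pow (by norm_num)
  have h : z8 * conj z8 = 1 := by rw [Complex.mul_conj', hn]; simp
  linear_combination z8 ^ 7 * h - conj z8 * z8_pow

theorem conj_aC : conj aC = -aC := by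
  rw [aC, map_add, map_pow, conj_z8]
  linear_combination (z8 ^ 3 + z8 * (z8 ^ 16 - z8 ^ 12 + z8 ^ 8 - z8 ^ 4 + 1)) * z8_four

/-- Values of the first function. -/
noncomputable def vA : Fin 8 → ℂ := ![0, 8, 0, 0, 2, 0, 2, 2]

/-- Values of the second function. -/
noncomputable def vD : Fin 8 → ℂ := ![0, 4, 0, 0, -2, 2, -aC, aC]

/-- Values of the third function. -/
noncomputable def vE : Fin 8 → ℂ := ![0, 8, 0, 0, 2, -4, 0, 0]

/-- The class function with values `v`. -/
noncomputable def cf (v : Fin 8 → ℂ) : M → ℂ := fun g => v (cls (coords g))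

theorem mem_gl (g : M) : coords g ∈ gl :=
  Finset.mem_filter.2 ⟨Finset.mem_univ _, tdet_coords g⟩

/-- The sign of the determinant. -/
noncomputable def sgn : M → ℂ := fun g => (-1 : ℂ) ^ (lDet (coords g)).val

theorem isGeneralized_sgn : IsGeneralizedCharacter M sgn := by
  refine isGeneralizedCharacter_of_isCharacter ?_
  let f : M →* ℂ :=
    { toFun := sgn
      map_one' := by
        show (-1 : ℂ) ^ (lDet (coords 1)).val = 1
        rw [coords_one, show (lDet (1, 0, 0, 1)).val = 0 by decide +kernel, pow_zero]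
      map_mul' := fun a b => by
        show (-1 : ℂ) ^ (lDet (coords (a * b))).val = _
        rw [coords_mul, lDet_mul' _ _ (tdet_coords a) (tdet_coords b),
          ← pow_eq_pow_mod _ (by norm_num : (-1 : ℂ) ^ 2 = 1), pow_add]
        rfl }
  exact CfsgLib.Induction.isCharacter_monoidHom f

theorem lDet_cls : ∀ g ∈ gl, (lDet g).val = ![0, 0, 1, 0, 0, 0, 1, 1] (cls g) := by decide +kernel

section Functions

variable [Fintype M]

theorem ind_oneB (g : M) : indFun (sub pB pB_one pB_mul) (lin (-1) lOne _) g =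
    cf ![4, 4, 2, 1, 1, 0, 0, 0] g := by
  rw [ind_apply, Fin.sum_univ_two, (cnt_one_B _ (mem_gl g)).1, (cnt_one_B _ (mem_gl g)).2,
    card_pB, cf]
  generalize cls (coords g) = i
  fin_cases i <;> norm_num

theorem ind_detB (g : M) : indFun (sub pB pB_one pB_mul) (lin (-1) lDet _) g =
    cf ![4, 4, -2, 1, 1, 0, 0, 0] g := by
  rw [ind_apply, Fin.sum_univ_two, (cnt_det_B _ (mem_gl g)).1, (cnt_det_B _ (mem_gl g)).2,
    card_pB, cf]
  generalize cls (coords g) = i
  fin_cases i <;> norm_num

theorem ind_aB (g : M) : indFun (sub pB pB_one pB_mul) (lin (-1) lA _) g =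
    cf ![4, -4, 0, 1, -1, 0, 0, 0] g := by
  rw [ind_apply, Fin.sum_univ_two, (cnt_a_B _ (mem_gl g)).1, (cnt_a_B _ (mem_gl g)).2,
    card_pB, cf]
  generalize cls (coords g) = i
  fin_cases i <;> norm_num

theorem ind_oneS (g : M) : indFun (sub pS pS_one pS_mul) (lin (-1) lOne _) g =
    cf ![3, 3, 1, 0, 0, 3, 1, 1] g := by
  rw [ind_apply, Fin.sum_univ_two, (cnt_one_S _ (mem_gl g)).1, (cnt_one_S _ (mem_gl g)).2,
    card_pS, cf]
  generalize cls (coords g) = i
  fin_cases i <;> norm_num

theorem ind_C (g : M) : indFun (sub pC pC_one pC_mul) (lin z8 lC _) g =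
    cf ![6, -6, 0, 0, 0, 0, aC, -aC] g := by
  rw [ind_apply, card_pC, Finset.sum_congr rfl (fun k _ => by rw [cnt_C _ (mem_gl g) k]), cf]
  generalize cls (coords g) = i
  fin_cases i <;> simp [tblC, Fin.sum_univ_eight, aC] <;>
    first
      | linear_combination (0 : ℂ) * z8_four
      | linear_combination (6 : ℂ) * z8_four
      | linear_combination (z8 ^ 2) * z8_four
      | linear_combination (8 * z8 ^ 2) * z8_four
      | linear_combination (z8 + z8 ^ 3) * z8_four

theorem isGeneralized_A : IsGeneralizedCharacter M (cf vA) := by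
  have h : cf vA = 1 + indFun (sub pB pB_one pB_mul) (lin (-1) lDet _) - sgn
      - indFun (sub pB pB_one pB_mul) (lin (-1) lA _) := by
    funext g
    simp only [Pi.sub_apply, Pi.add_apply, Pi.one_apply, ind_detB, ind_aB, sgn,
      lDet_cls _ (mem_gl g), cf]
    generalize cls (coords g) = i
    fin_cases i <;> norm_num [vA]
  rw [h]
  exact isGeneralizedCharacter_sub (isGeneralizedCharacter_sub (isGeneralizedCharacter_add
    isGeneralizedCharacter_one (isGeneralized_ind (by norm_num) _ pB_one pB_mul _ rfl lDet_mul))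
    isGeneralized_sgn) (isGeneralized_ind (by norm_num) _ pB_one pB_mul _ rfl lA_mul)

theorem isGeneralized_D : IsGeneralizedCharacter M (cf vD) := by
  have h : cf vD = indFun (sub pS pS_one pS_mul) (lin (-1) lOne _) - 1
      + indFun (sub pB pB_one pB_mul) (lin (-1) lA _)
      - indFun (sub pC pC_one pC_mul) (lin z8 lC _) := by
    funext g
    simp only [Pi.sub_apply, Pi.add_apply, Pi.one_apply, ind_oneS, ind_aB, ind_C, cf]
    generalize cls (coords g) = i
    fin_cases i <;> simp [vD] <;> norm_num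
  rw [h]
  exact isGeneralizedCharacter_sub (isGeneralizedCharacter_add (isGeneralizedCharacter_sub
    (isGeneralized_ind (by norm_num) _ pS_one pS_mul _ rfl (fun _ _ _ _ => rfl))
    isGeneralizedCharacter_one) (isGeneralized_ind (by norm_num) _ pB_one pB_mul _ rfl lA_mul))
    (isGeneralized_ind z8_pow _ pC_one pC_mul _ rfl lC_mul)

theorem isGeneralized_E : IsGeneralizedCharacter M (cf vE) := by
  have h : cf vE = indFun (sub pB pB_one pB_mul) (lin (-1) lOne _)
      + indFun (sub pB pB_one pB_mul) (lin (-1) lDet _) - sgn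
      - indFun (sub pS pS_one pS_mul) (lin (-1) lOne _)
      - indFun (sub pB pB_one pB_mul) (lin (-1) lA _) := by
    funext g
    simp only [Pi.sub_apply, Pi.add_apply, ind_oneB, ind_detB, ind_oneS, ind_aB, sgn,
      lDet_cls _ (mem_gl g), cf]
    generalize cls (coords g) = i
    fin_cases i <;> norm_num [vE]
  rw [h]
  exact isGeneralizedCharacter_sub (isGeneralizedCharacter_sub (isGeneralizedCharacter_sub
    (isGeneralizedCharacter_add
      (isGeneralized_ind (by norm_num) _ pB_one pB_mul _ rfl (fun _ _ _ _ => rfl))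
      (isGeneralized_ind (by norm_num) _ pB_one pB_mul _ rfl lDet_mul)) isGeneralized_sgn)
    (isGeneralized_ind (by norm_num) _ pS_one pS_mul _ rfl (fun _ _ _ _ => rfl)))
    (isGeneralized_ind (by norm_num) _ pB_one pB_mul _ rfl lA_mul)

theorem inner_cf (v w : Fin 8 → ℂ) :
    classInner (cf v) (cf w) = (48 : ℂ)⁻¹ * ∑ i, (clsSize i : ℂ) * (v i * conj (w i)) := by
  rw [classInner, card_M]
  congr 1
  exact sum_cls fun i => v i * conj (w i)

omit [Fintype M] in
theorem one_eq_cf : (1 : M → ℂ) = cf fun _ => 1 := rfl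

end Functions

/-! ## Powers, the support and the involution count -/

/-- Powers in coordinates. -/
def tpow (x : T) : ℕ → T
  | 0 => (1, 0, 0, 1)
  | n + 1 => tmul (tpow x n) x

theorem coords_pow (g : M) (n : ℕ) : coords (g ^ n) = tpow (coords g) n := by
  induction n with
  | zero => rw [pow_zero, coords_one]; rfl
  | succ n ih => rw [pow_succ, coords_mul, ih]; rfl

/-- The elements with `-1` among their powers. -/
def inS (x : T) : Prop := cls x ∈ ({1, 4, 5, 6, 7} : Finset (Fin 8))

instance : DecidablePred inS := fun x =>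
  inferInstanceAs (Decidable (cls x ∈ ({1, 4, 5, 6, 7} : Finset (Fin 8))))

theorem inS_pow : ∀ x ∈ gl, inS x → ∃ k : Fin 5, tpow x k.val = (2, 0, 0, 2) := by decide +kernel

theorem inS_unique : ∀ x ∈ gl, inS x → ∀ k : Fin 5, tmul (tpow x k.val) (tpow x k.val) = (1, 0, 0, 1) →
    tpow x k.val ≠ (1, 0, 0, 1) → tpow x k.val = (2, 0, 0, 2) := by decide +kernel

theorem central_involution : ∀ x ∈ gl, tmul x x = (1, 0, 0, 1) → x ≠ (1, 0, 0, 1) →
    (∀ y ∈ gl, tmul x y = tmul y x) → x = (2, 0, 0, 2) := by decide +kernel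

theorem involution_cases : ∀ x ∈ gl, tmul x x = (1, 0, 0, 1) → x ≠ (1, 0, 0, 1) →
    x = (2, 0, 0, 2) ∨ cls x = 2 := by decide +kernel

theorem cls_two_conj : ∀ x ∈ gl, cls x = 2 → ∀ y ∈ gl, cls y = 2 →
    ∃ z ∈ gl, tconj z x = y := by decide +kernel

/-- The factorisations of `x` into two involutions. -/
def invPairs (x : T) : Finset T :=
  gl.filter fun y => (tmul y y = (1, 0, 0, 1) ∧ y ≠ (1, 0, 0, 1)) ∧
    (tmul (tmul y x) (tmul y x) = (1, 0, 0, 1) ∧ tmul y x ≠ (1, 0, 0, 1))

/-- Their number on each class. -/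
def invTbl : Fin 8 → ℕ := ![13, 12, 2, 3, 6, 4, 0, 0]

theorem card_invPairs : ∀ x ∈ gl, inS x → (invPairs x).card = invTbl (cls x) := by decide +kernel

end CfsgLib.GL23
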