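import Cfsg.Agent.Lib.GL23.Model
import Cfsg.Agent.Lib.Characters.Values
import Cfsg.Agent.Lib.Characters.Galois
import Mathlib.GroupTheory.OrderOfElement
import Mathlib.Tactic.Group

/-!
# Induction from the centralizer of an involution isomorphic to `GL(2, 3)`
-/

set_option autoImplicit false
set_option linter.style.haveILetI false

namespace CfsgLib.GL23

open Cfsg CfsgLib.Characters
open scoped ComplexConjugate

variable {G : Type*} [Group G] {t : G}

/-- The centralizer of `t`. -/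
abbrev Ct (t : G) : Subgroup G := Subgroup.centralizer ({t} : Set G)

/-- The coordinates of an element of the centralizer. -/
noncomputable def cc (e : Ct t ≃* M) (h : Ct t) : T := coords (e h)

/-- The function on the centralizer with values `v`. -/
noncomputable def th (e : Ct t ≃* M) (v : Fin 8 → ℂ) : Ct t → ℂ := fun h => v (cls (cc e h))

theorem cc_mem (e : Ct t ≃* M) (h : Ct t) : cc e h ∈ gl := mem_gl _

theorem cc_injective (e : Ct t ≃* M) : Function.Injective (cc e) :=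
  coords_injective.comp e.injective

theorem cc_one (e : Ct t ≃* M) : cc e 1 = (1, 0, 0, 1) := by rw [cc, map_one, coords_one]

theorem cc_mul (e : Ct t ≃* M) (a b : Ct t) : cc e (a * b) = tmul (cc e a) (cc e b) := by
  rw [cc, map_mul, coords_mul]; rfl

theorem cc_pow (e : Ct t ≃* M) (a : Ct t) (n : ℕ) : cc e (a ^ n) = tpow (cc e a) n := by
  rw [cc, map_pow, coords_pow]; rfl

theorem cc_surj (e : Ct t ≃* M) {x : T} (hx : x ∈ gl) : ∃ h : Ct t, cc e h = x := by
  obtain ⟨g, hg⟩ := exists_coords (Finset.mem_filter.1 hx).2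
  exact ⟨e.symm g, by rw [cc, e.apply_symm_apply, hg]⟩

theorem mem_Ct {g : G} : g ∈ Ct t ↔ g * t = t * g := Subgroup.mem_centralizer_singleton_iff

theorem sq_t (ht : orderOf t = 2) : t * t = 1 := by
  rw [← sq, ← ht, pow_orderOf_eq_one]

theorem t_ne_one (ht : orderOf t = 2) : t ≠ 1 := by
  rintro rfl; rw [orderOf_one] at ht; omega

/-- The involution inside its centralizer. -/
def tC (t : G) : Ct t := ⟨t, mem_Ct.2 rfl⟩

theorem cc_tC (e : Ct t ≃* M) (ht : orderOf t = 2) : cc e (tC t) = (2, 0, 0, 2) := by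
  refine central_involution _ (cc_mem e _) ?_ ?_ ?_
  · rw [← cc_mul, show tC t * tC t = 1 from Subtype.ext (sq_t ht), cc_one]
  · intro h
    rw [← cc_one e] at h
    exact t_ne_one ht (congrArg Subtype.val (cc_injective e h))
  · intro y hy
    obtain ⟨h, rfl⟩ := cc_surj e hy
    rw [← cc_mul, ← cc_mul]
    exact congrArg (cc e) (Subtype.ext (mem_Ct.1 h.2).symm)

theorem eq_tC_iff (e : Ct t ≃* M) (ht : orderOf t = 2) (h : Ct t) :
    (h : G) = t ↔ cc e h = (2, 0, 0, 2) := by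
  rw [← cc_tC e ht]
  exact ⟨fun h' => congrArg (cc e) (Subtype.ext h'),
    fun h' => congrArg Subtype.val (cc_injective e h')⟩

theorem exists_pow_eq_t (e : Ct t ≃* M) (ht : orderOf t = 2) {x : Ct t} (hx : inS (cc e x)) :
    ∃ k : Fin 5, (x : G) ^ k.val = t := by
  obtain ⟨k, hk⟩ := inS_pow _ (cc_mem e x) hx
  rw [← cc_pow, ← eq_tC_iff e ht, Subgroup.coe_pow] at hk
  exact ⟨k, hk⟩

/-- The support is a trivial intersection set. -/
theorem mem_of_conj (e : Ct t ≃* M) (ht : orderOf t = 2) {x y : Ct t} (hx : inS (cc e x))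
    (hy : inS (cc e y)) {g : G} (h : g * x * g⁻¹ = y) : g ∈ Ct t := by
  obtain ⟨k, hk⟩ := exists_pow_eq_t e ht hx
  have h1 : g * t * g⁻¹ = ((y ^ k.val : Ct t) : G) := by
    rw [Subgroup.coe_pow, ← h, conj_pow, hk]
  have h2 : ((y ^ k.val : Ct t) : G) = t := by
    refine (eq_tC_iff e ht _).2 ?_
    rw [cc_pow]
    refine inS_unique _ (cc_mem e y) hy k ?_ ?_
    · rw [← cc_pow, ← cc_mul, ← cc_one e]
      refine congrArg (cc e) (Subtype.ext ?_)
      rw [Subgroup.coe_mul, ← h1, Subgroup.coe_one,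
        show g * t * g⁻¹ * (g * t * g⁻¹) = g * (t * t) * g⁻¹ by group, sq_t ht]
      group
    · rw [← cc_pow, ← cc_one e]
      intro h3
      have h4 := congrArg Subtype.val (cc_injective e h3)
      rw [Subgroup.coe_one, ← h1] at h4
      exact t_ne_one ht (by simpa using h4)
  rw [h2] at h1
  exact mem_Ct.2 (mul_inv_eq_iff_eq_mul.1 h1)

theorem th_eq_zero (e : Ct t ≃* M) {v : Fin 8 → ℂ}
    (hv : ∀ i, i ∉ ({1, 4, 5, 6, 7} : Finset (Fin 8)) → v i = 0) {h : Ct t}
    (hh : ¬ inS (cc e h)) : th e v h = 0 := hv _ hh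

theorem th_conj (e : Ct t ≃* M) (v : Fin 8 → ℂ) (a b : Ct t) :
    th e v (b * a * b⁻¹) = th e v a := by
  simp only [th, cc, map_mul, map_inv]
  exact isClassFunction_cls v _ _

theorem th_eq_cf (e : Ct t ≃* M) (v : Fin 8 → ℂ) : th e v = cf v ∘ e := rfl

theorem isGeneralized_th (e : Ct t ≃* M) {v : Fin 8 → ℂ}
    (hv : IsGeneralizedCharacter M (cf v)) : IsGeneralizedCharacter (Ct t) (th e v) := by
  obtain ⟨χ, ψ, hχ, hψ, he⟩ := hv
  exact ⟨fun h => χ (e h), fun h => ψ (e h), CfsgLib.CharGalois.isCharacter_comp hχ e.toMonoidHom,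
    CfsgLib.CharGalois.isCharacter_comp hψ e.toMonoidHom, funext fun h => congrFun he (e h)⟩

theorem sum_th [Fintype (Ct t)] (e : Ct t ≃* M) (f : Fin 8 → ℂ) :
    ∑ h : Ct t, th e f h = ∑ i, (clsSize i : ℂ) * f i := by
  letI : Fintype M := Fintype.ofEquiv _ e.toEquiv
  rw [← sum_cls f]
  exact Fintype.sum_equiv e.toEquiv _ _ fun h => rfl

theorem card_Ct (e : Ct t ≃* M) : Nat.card (Ct t) = 48 := by
  rw [Nat.card_congr e.toEquiv, card_M]

variable [Fintype G]

/-- Restriction of the induced function to the support. -/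
theorem ind_apply_inS (e : Ct t ≃* M) (ht : orderOf t = 2) {v : Fin 8 → ℂ}
    (hv : ∀ i, i ∉ ({1, 4, 5, 6, 7} : Finset (Fin 8)) → v i = 0) {x : Ct t}
    (hx : inS (cc e x)) : indFun (Ct t) (th e v) (x : G) = th e v x := by
  classical
  rw [CfsgLib.Induction.indFun_apply, card_Ct e]
  have key : ∀ g : G, extendByZero (Ct t) (th e v) (g⁻¹ * x * g) =
      if g ∈ Ct t then th e v x else 0 := by
    intro g
    by_cases hg : g ∈ Ct t
    · have hm : g⁻¹ * x * g ∈ Ct t := mul_mem (mul_mem (inv_mem hg) x.2) hg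
      rw [if_pos hg, CfsgLib.Induction.extendByZero_mem _ _ hm]
      rw [show (⟨g⁻¹ * x * g, hm⟩ : Ct t) = (⟨g, hg⟩ : Ct t)⁻¹ * x * (⟨g, hg⟩ : Ct t)⁻¹⁻¹ from
        Subtype.ext (by simp)]
      exact th_conj e v x _
    · rw [if_neg hg]
      by_cases hm : g⁻¹ * x * g ∈ Ct t
      · rw [CfsgLib.Induction.extendByZero_mem _ _ hm]
        refine th_eq_zero e hv fun hy => hg ?_
        exact mem_of_conj e ht hy hx (show g * (g⁻¹ * x * g) * g⁻¹ = x by group)
      · rw [CfsgLib.Induction.extendByZero_notMem _ _ hm]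
  rw [Finset.sum_congr rfl fun g _ => key g, ← Finset.sum_filter, Finset.sum_const, nsmul_eq_mul,
    ← Fintype.card_subtype, ← Nat.card_eq_fintype_card, card_Ct e]
  push_cast
  ring

theorem ind_apply_one (e : Ct t ≃* M) {v : Fin 8 → ℂ}
    (hv : ∀ i, i ∉ ({1, 4, 5, 6, 7} : Finset (Fin 8)) → v i = 0) :
    indFun (Ct t) (th e v) 1 = 0 := by
  rw [CfsgLib.Induction.indFun_apply, Finset.sum_eq_zero, mul_zero]
  intro g _
  rw [show g⁻¹ * 1 * g = ((1 : Ct t) : G) by simp, CfsgLib.Induction.extendByZero_coe]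
  refine th_eq_zero e hv ?_
  rw [cc_one]
  decide +kernel

theorem ind_apply_t (e : Ct t ≃* M) (ht : orderOf t = 2) {v : Fin 8 → ℂ}
    (hv : ∀ i, i ∉ ({1, 4, 5, 6, 7} : Finset (Fin 8)) → v i = 0) :
    indFun (Ct t) (th e v) t = v 1 := by
  have h := ind_apply_inS e ht hv (x := tC t) (by rw [cc_tC e ht]; decide +kernel)
  rw [show ((tC t : Ct t) : G) = t from rfl] at h
  rw [h, th, cc_tC e ht, show cls (2, 0, 0, 2) = 1 by decide +kernel]

theorem isClassFunction_ind (e : Ct t ≃* M) (v : Fin 8 → ℂ)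
    (hg : IsGeneralizedCharacter M (cf v)) : IsClassFunction G (indFun (Ct t) (th e v)) := by
  classical
  exact isClassFunction_of_isGeneralizedCharacter
    (CfsgLib.CharArtin.isGeneralizedCharacter_indFun _ (isGeneralized_th e hg))

/-- Induction from the centralizer preserves inner products on the support. -/
theorem inner_ind (e : Ct t ≃* M) (ht : orderOf t = 2) {v w : Fin 8 → ℂ}
    (hv : ∀ i, i ∉ ({1, 4, 5, 6, 7} : Finset (Fin 8)) → v i = 0)
    (hw : ∀ i, i ∉ ({1, 4, 5, 6, 7} : Finset (Fin 8)) → w i = 0)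
    (hg : IsGeneralizedCharacter M (cf w)) :
    classInner (indFun (Ct t) (th e v)) (indFun (Ct t) (th e w)) =
      (48 : ℂ)⁻¹ * ∑ i, (clsSize i : ℂ) * (v i * conj (w i)) := by
  classical
  letI : Fintype (Ct t) := Fintype.ofFinite _
  rw [CfsgLib.Induction.classInner_indFun _ _ (isClassFunction_ind e w hg), classInner, card_Ct e,
    ← sum_th e]
  norm_num
  refine Finset.sum_congr rfl fun h _ => ?_
  by_cases hh : inS (cc e h)
  · rw [ind_apply_inS e ht hw hh]; rfl
  · rw [th_eq_zero e hv hh, zero_mul]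
    simp only [th] at *
    rw [hv _ hh, zero_mul]

theorem inner_ind_one (e : Ct t ≃* M) (v : Fin 8 → ℂ) :
    classInner (indFun (Ct t) (th e v)) (fun _ => 1) =
      (48 : ℂ)⁻¹ * ∑ i, (clsSize i : ℂ) * v i := by
  classical
  letI : Fintype (Ct t) := Fintype.ofFinite _
  rw [CfsgLib.Induction.classInner_indFun _ _ (fun _ _ => rfl), classInner, card_Ct e,
    ← sum_th e]
  simp

/-- The structure constant against an induced function. -/
theorem sum_involution_products [DecidableRel (IsConj : G → G → Prop)] (e : Ct t ≃* M)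
    (ht : orderOf t = 2) {v : Fin 8 → ℂ}
    (hv : ∀ i, i ∉ ({1, 4, 5, 6, 7} : Finset (Fin 8)) → v i = 0) (w : Fin 8 → ℂ)
    (hN : ∀ x : Ct t, inS (cc e x) →
      ((Finset.univ.filter fun a : G => IsConj t a ∧ IsConj t (a * x)).card : ℂ) = w (cls (cc e x))) :
    ∑ a ∈ Finset.univ.filter (IsConj t), ∑ b ∈ Finset.univ.filter (IsConj t),
        indFun (Ct t) (th e v) (a * b) =
      (Nat.card G : ℂ) * (48 : ℂ)⁻¹ * ∑ i, (clsSize i : ℂ) * (v i * w i) := by
  letI : Fintype (Ct t) := Fintype.ofFinite _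
  let n : G → ℂ := fun x =>
    ((Finset.univ.filter fun a : G => IsConj t a ∧ IsConj t (a * x)).card : ℂ)
  have hconj : ∀ (g a : G), IsConj t (g * a * g⁻¹) ↔ IsConj t a := fun g a =>
    ⟨fun h => h.trans (isConj_iff.2 ⟨g⁻¹, by group⟩), fun h => h.trans (isConj_iff.2 ⟨g, rfl⟩)⟩
  have hn : IsClassFunction G n := by
    intro x g
    simp only [n]
    congr 1
    refine (Finset.card_bij' (fun a _ => g * a * g⁻¹) (fun a _ => g⁻¹ * a * g) ?_ ?_ ?_ ?_).symm
    · intro a ha
      simp only [Finset.mem_filter, Finset.mem_univ, true_and] at ha ⊢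
      refine ⟨(hconj g a).2 ha.1, ?_⟩
      rw [show g * a * g⁻¹ * (g * x * g⁻¹) = g * (a * x) * g⁻¹ by group]
      exact (hconj g _).2 ha.2
    · intro a ha
      simp only [Finset.mem_filter, Finset.mem_univ, true_and] at ha ⊢
      refine ⟨(hconj g _).1 (by simpa [mul_assoc] using ha.1), (hconj g _).1 ?_⟩
      rw [show g * (g⁻¹ * a * g * x) * g⁻¹ = a * (g * x * g⁻¹) by group]
      exact ha.2
    · intro a _; group
    · intro a _; group
  have hsq : ∀ a : G, IsConj t a → a * a = 1 := by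
    intro a ha
    obtain ⟨g, rfl⟩ := isConj_iff.1 ha
    rw [show g * t * g⁻¹ * (g * t * g⁻¹) = g * (t * t) * g⁻¹ by group, sq_t ht]
    group
  have h1 : ∀ F : G → ℂ, ∑ a ∈ Finset.univ.filter (IsConj t),
      ∑ b ∈ Finset.univ.filter (IsConj t), F (a * b) = ∑ x : G, F x * n x := by
    intro F
    calc ∑ a ∈ Finset.univ.filter (IsConj t), ∑ b ∈ Finset.univ.filter (IsConj t), F (a * b)
        = ∑ a ∈ Finset.univ.filter (IsConj t), ∑ x : G, if IsConj t (a * x) then F x else 0 := by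
          refine Finset.sum_congr rfl fun a ha => ?_
          rw [Finset.sum_filter]
          refine Fintype.sum_equiv (Equiv.mulLeft a) _ _ fun b => ?_
          rw [Equiv.coe_mulLeft, ← mul_assoc, hsq a (Finset.mem_filter.1 ha).2, one_mul]
      _ = ∑ x : G, F x * n x := by
          rw [Finset.sum_comm]
          refine Finset.sum_congr rfl fun x _ => ?_
          rw [← Finset.sum_filter, Finset.sum_const, Finset.filter_filter, nsmul_eq_mul, mul_comm]
  have h2 := CfsgLib.Induction.sum_indFun_mul (Ct t) (th e v) (f := n) hn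
  have hg : (Nat.card G : ℂ) ≠ 0 := Nat.cast_ne_zero.2 Nat.card_pos.ne'
  rw [h1, ← sum_th e, mul_assoc, show (48 : ℂ)⁻¹ * ∑ h : Ct t, th e (fun i => v i * w i) h =
      (Nat.card (Ct t) : ℂ)⁻¹ * ∑ h : Ct t, th e v h * n h from ?_, ← h2]
  · rw [← mul_assoc, mul_inv_cancel₀ hg, one_mul]
  · rw [card_Ct e]
    norm_num
    refine Finset.sum_congr rfl fun h _ => ?_
    by_cases hh : inS (cc e h)
    · simp only [n, hN h hh]; rfl
    · rw [th_eq_zero e hv hh, zero_mul]
      simp only [th] at *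
      rw [hv _ hh, zero_mul]

omit [Fintype G] in
theorem conj_t_eq {x : G} {k : ℕ} (hk : x ^ k = t) (ht : orderOf t = 2) {a : G}
    (h1 : a * a = 1) (h2 : a * x * (a * x) = 1) : a ∈ Ct t := by
  have h3 : a * x * a⁻¹ = x⁻¹ := by
    rw [show a⁻¹ = a from inv_eq_of_mul_eq_one_right h1]
    exact eq_inv_of_mul_eq_one_left (by rw [mul_assoc, mul_assoc, ← mul_assoc]; exact h2)
  have h4 := congrArg (· ^ k) h3
  simp only [conj_pow, hk, inv_pow, inv_eq_of_mul_eq_one_right (sq_t ht)] at h4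
  exact mem_Ct.2 (mul_inv_eq_iff_eq_mul.1 h4)

omit [Fintype G] in
theorem sq_of_isConj (ht : orderOf t = 2) {a : G} (ha : IsConj t a) : a * a = 1 ∧ a ≠ 1 := by
  obtain ⟨g, rfl⟩ := isConj_iff.1 ha
  refine ⟨?_, fun h => t_ne_one ht (by simpa using h)⟩
  rw [show g * t * g⁻¹ * (g * t * g⁻¹) = g * (t * t) * g⁻¹ by group, sq_t ht]
  group

omit [Fintype G] in
theorem cc_inv_iff (e : Ct t ≃* M) (a : Ct t) :
    ((a : G) * a = 1 ∧ (a : G) ≠ 1) ↔
      (tmul (cc e a) (cc e a) = (1, 0, 0, 1) ∧ cc e a ≠ (1, 0, 0, 1)) := by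
  rw [← cc_mul, ← cc_one e, (cc_injective e).eq_iff, Ne, Ne, (cc_injective e).eq_iff,
    Subtype.ext_iff, Subtype.ext_iff]
  rfl

/-- If all involutions of the centralizer are conjugate to `t`. -/
theorem count_fused [DecidableRel (IsConj : G → G → Prop)] (e : Ct t ≃* M) (ht : orderOf t = 2)
    (hall : ∀ a : Ct t, (a : G) * a = 1 → (a : G) ≠ 1 → IsConj t (a : G)) (x : Ct t)
    (hx : inS (cc e x)) :
    (Finset.univ.filter fun a : G => IsConj t a ∧ IsConj t (a * x)).card = invTbl (cls (cc e x)) := by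
  obtain ⟨k, hk⟩ := exists_pow_eq_t e ht hx
  rw [← card_invPairs _ (cc_mem e x) hx]
  have hmem : ∀ a ∈ Finset.univ.filter (fun a : G => IsConj t a ∧ IsConj t (a * x)), a ∈ Ct t :=
    fun a ha => conj_t_eq hk ht (sq_of_isConj ht (Finset.mem_filter.1 ha).2.1).1
      (sq_of_isConj ht (Finset.mem_filter.1 ha).2.2).1
  refine Finset.card_bij (fun a ha => cc e ⟨a, hmem a ha⟩) ?_ ?_ ?_
  · intro a ha
    have q := (cc_inv_iff e (⟨a, hmem a ha⟩ * x)).1 (sq_of_isConj ht (Finset.mem_filter.1 ha).2.2)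
    rw [cc_mul e _ x] at q
    exact Finset.mem_filter.2 ⟨cc_mem e _,
      (cc_inv_iff e ⟨a, hmem a ha⟩).1 (sq_of_isConj ht (Finset.mem_filter.1 ha).2.1), q⟩
  · intro a _ b _ h
    exact congrArg Subtype.val (cc_injective e h)
  · intro y hy
    obtain ⟨hy0, hy1, hy2⟩ := Finset.mem_filter.1 hy
    obtain ⟨a, rfl⟩ := cc_surj e hy0
    rw [← cc_mul] at hy2
    refine ⟨a, Finset.mem_filter.2 ⟨Finset.mem_univ _, ?_⟩, rfl⟩
    obtain ⟨p1, p2⟩ := (cc_inv_iff e a).2 hy1
    obtain ⟨q1, q2⟩ := (cc_inv_iff e (a * x)).2 hy2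
    exact ⟨hall a p1 p2, hall (a * x) q1 q2⟩

/-- If `t` is conjugate to no other involution of its centralizer. -/
theorem count_isolated [DecidableRel (IsConj : G → G → Prop)] (e : Ct t ≃* M) (ht : orderOf t = 2)
    (hiso : ∀ a : Ct t, IsConj t (a : G) → (a : G) = t) (x : Ct t) (hx : inS (cc e x)) :
    (Finset.univ.filter fun a : G => IsConj t a ∧ IsConj t (a * x)).card = 0 := by
  obtain ⟨k, hk⟩ := exists_pow_eq_t e ht hx
  rw [Finset.card_eq_zero, Finset.filter_eq_empty_iff]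
  rintro a - ⟨h1, h2⟩
  have hm := conj_t_eq hk ht (sq_of_isConj ht h1).1 (sq_of_isConj ht h2).1
  have ha : a = t := hiso ⟨a, hm⟩ h1
  subst ha
  have h3 := hiso ⟨a * x, mul_mem hm x.2⟩ h2
  have h4 : (x : G) = 1 := mul_eq_left.1 h3
  have h5 : x = 1 := Subtype.ext h4
  rw [h5, cc_one] at hx
  exact absurd hx (by decide +kernel)

omit [Fintype G] in
theorem involution_dichotomy (e : Ct t ≃* M) (ht : orderOf t = 2) :
    (∀ a : Ct t, (a : G) * a = 1 → (a : G) ≠ 1 → IsConj t (a : G)) ∨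
      (∀ a : Ct t, IsConj t (a : G) → (a : G) = t) := by
  refine or_iff_not_imp_right.2 fun h => ?_
  push Not at h
  obtain ⟨b, hb, hbt⟩ := h
  have hb2 : cls (cc e b) = 2 := by
    obtain ⟨p1, p2⟩ := (cc_inv_iff e b).1 (sq_of_isConj ht hb)
    exact (involution_cases _ (cc_mem e b) p1 p2).resolve_left
      fun h => hbt ((eq_tC_iff e ht b).2 h)
  intro a h1 h2
  obtain ⟨p1, p2⟩ := (cc_inv_iff e a).1 ⟨h1, h2⟩
  rcases involution_cases _ (cc_mem e a) p1 p2 with h | h
  · rw [(eq_tC_iff e ht a).2 h]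
  · obtain ⟨z, hz, hzb⟩ := cls_two_conj _ (cc_mem e b) hb2 _ (cc_mem e a) h
    obtain ⟨c, rfl⟩ := cc_surj e hz
    have h6 : c⁻¹ * b * c = a := cc_injective e (by
      rw [← hzb]
      simp only [cc, map_mul, map_inv, coords_mul, coords_inv, tconj])
    exact hb.trans (isConj_iff.2 ⟨(c : G)⁻¹, by rw [← h6]; simp⟩)

end CfsgLib.GL23
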